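import Cfsg.Agent.Lib.Classical.DecompOrth.Values

/-!
# The parameters of the Siegel transformations in `M` with a given axis
-/

set_option autoImplicit false
set_option linter.unusedSectionVars false

open Module QuadraticMap CfsgLib.Orth
open scoped commutatorElement

namespace CfsgLib.Classical.DecompOrth

variable {F V : Type*} [Field F] [AddCommGroup V] [Module F V] [FiniteDimensional F V] [Fintype F]
  {Q : QuadraticForm F V} {t k : ℕ} {D : Fin t → Submodule F V} {M : Subgroup (orthGroup Q)}
variable (S : Setup M k D)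
include S

theorem Setup.axes_top {e e' : V} (he : Q e = 0) (he' : Q e' = 0) (hee : polar Q e e' ≠ 0) (ha : AxIn M e)
    (ha' : AxIn M e') : commutator (orthGroup Q) ≤ M := by
  obtain ⟨hp⟩ := exists_hypPairs S.nondeg S.rank
  rw [commutator_eq_siegelGroup S.nondeg S.good hp S.rank]
  refine siegelGroup_le_of_ax fun v hv => ?_
  by_cases hv0 : v = 0
  · rw [hv0]; exact AxIn.zero M
  have hstep : ∀ r, Q r = 0 → polar Q e r ≠ 0 → AxIn M r := fun r hr her => by
    by_cases her' : polar Q e' r = 0
    · -- go through a multiple of `e'`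
      exact ax_move S.nondeg ha he he' hr hee her ha'
    · exact ax_move S.nondeg ha' he' he hr (by rwa [polar_comm]) her' ha
  by_cases hev : polar Q e v = 0
  swap
  · exact hstep v hv hev
  have he0 : e ≠ 0 := fun h => hee (by rw [h, polar_zero_left])
  obtain ⟨r, hr, -, hre, hrv⟩ := exists_common S.nondeg S.rank (d := 0) (map_zero Q) he hv (polar_zero_left Q e)
    (polar_zero_left Q v) (by simpa using he0) (by simpa using hv0)
  exact ax_move S.nondeg (hstep r hr hre) hr he hv (by rwa [polar_comm]) (by rwa [polar_comm]) ha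

/-- The parameters `y ⊥ e` with `E(e, y) ∈ M`. -/
def Par (M : Subgroup (orthGroup Q)) (e y : V) : Prop := polar Q e y = 0 ∧ SiegelIn M e y

theorem Setup.par_add {e y z : V} (he : Q e = 0) (h : Par M e y) (h' : Par M e z) : Par M e (y + z) :=
  ⟨by rw [polar_add_right, h.1, h'.1, add_zero], SiegelIn.add S.nondeg he h.1 h'.1 h.2 h'.2⟩

theorem Setup.par_neg {e y : V} (he : Q e = 0) (h : Par M e y) : Par M e (-y) :=
  ⟨by rw [polar_neg_right, h.1, neg_zero], SiegelIn.neg S.nondeg he h.1 h.2⟩

theorem Setup.par_sub {e y z : V} (he : Q e = 0) (h : Par M e y) (h' : Par M e z) : Par M e (y - z) := by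
  rw [sub_eq_add_neg]; exact S.par_add he h (S.par_neg he h')

omit S in
theorem par_zero {e : V} (he : Q e = 0) : Par M e 0 :=
  ⟨polar_zero_right Q e, fun g hg => (hg.unique (isSiegel_one he)) ▸ M.one_mem⟩

omit S in
theorem par_smul_self {e : V} (he : Q e = 0) (a : F) : Par M e (a • e) :=
  ⟨by rw [polar_smul_r', polar_self', he]; ring, siegelIn_smul_self M he a⟩

omit S in
theorem par_map {e y : V} (h : Par M e y) {m : orthGroup Q} (hm : m ∈ M) (he : m.1 e = e) : Par M e (m.1 y) := by
  have h1 := SiegelIn.conj h.2 hm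
  rw [he] at h1
  exact ⟨by conv_lhs => rw [← he, polar_isom, h.1], h1⟩

/-- A line of parameters spreads over the whole block, given spare reflections. -/
theorem Setup.par_block {e : V} (he : Q e = 0) {i p : Fin t} (hpi : p ≠ i)
    (hei : ∀ x ∈ D i, polar Q x e = 0) {W : Submodule F V} (hW : W ≤ D p) (hval : ∀ c : F, ∃ a ∈ W, Q a = c)
    (hWe : ∀ w ∈ W, polar Q w e = 0) {v : V} (hv : v ∈ D i) (hv0 : v ≠ 0) (hline : ∀ a : F, Par M e (a • v))
    {y : V} (hy : y ∈ D i) : Par M e y := by
  let L : Submodule F V :=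
    { carrier := {x | x ∈ D i ∧ ∀ a : F, Par M e (a • x)}
      add_mem' := fun {x x'} hx hx' => ⟨(D i).add_mem hx.1 hx'.1, fun a => by
        rw [smul_add]; exact S.par_add he (hx.2 a) (hx'.2 a)⟩
      zero_mem' := ⟨(D i).zero_mem, fun a => by rw [smul_zero]; exact par_zero he⟩
      smul_mem' := fun b x hx => ⟨(D i).smul_mem b hx.1, fun a => by rw [smul_smul]; exact hx.2 _⟩ }
  have hL : ∀ x, x ∈ L ↔ x ∈ D i ∧ ∀ a : F, Par M e (a • x) := fun x => Iff.rfl
  have hmove : ∀ m ∈ M, m.1 e = e → ∀ c ∈ L, m.1 c ∈ D i → m.1 c ∈ L := fun m hm hme c hc hmc =>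
    (hL _).2 ⟨hmc, fun a => by rw [← map_smul]; exact par_map (((hL c).1 hc).2 a) hm hme⟩
  have hsub : L ≤ D i := fun x hx => ((hL x).1 hx).1
  have hne : L ≠ ⊥ := fun h => hv0 ((Submodule.eq_bot_iff L).1 h v ((hL v).2 ⟨hv, hline⟩))
  have hle : D i ≤ L := by
    refine invariant_eq S.nondeg (S.dec.nd i) hsub hne (fun w hw hQw c hc => ?_) (fun e' he' y' hy' g hg c hc => ?_) ?_
    · obtain ⟨s, hsΩ, hsfix, hsv⟩ := S.corr hW hval (refl Q w)
      have hm : refl Q w * s ∈ M := S.mem_of_fix hsΩ ((fixBlocks D).mul_mem (refl_mem_fixBlocks S.dec hw) hsfix)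
      have hsc : s.1 c = c := hsv c fun x hx => S.dec.orth p i hpi x (hW hx) c (hsub hc)
      have hme : (refl Q w * s).1 e = e := by
        show (refl Q w).1 (s.1 e) = e
        rw [hsv e hWe, refl_fix Q (hei w hw)]
      have := hmove _ hm hme c hc (by
        show (refl Q w).1 (s.1 c) ∈ D i
        rw [hsc]; exact fixBlocks_apply (refl_mem_fixBlocks S.dec hw) (hsub hc))
      change (refl Q w).1 (s.1 c) ∈ L at this
      rwa [hsc] at this
    · exact hmove g (S.siegelIn_block he' hy' g hg) (hg.fix (hei e' he') (hei y' hy')) c hc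
        (fixBlocks_apply (siegel_mem_fixBlocks S.dec he' hy' hg) (hsub hc))
    · rcases (show k = 2 ∨ 3 ≤ k by have := S.two_le; omega) with h | h
      · by_cases hiso : ∃ x ∈ D i, x ≠ 0 ∧ Q x = 0
        · exact Or.inl (by have := (S.small_two h).2 ⟨i, hiso⟩; omega)
        · exact Or.inr (Or.inr fun x hx hx0 => by_contra fun hne' => hiso ⟨x, hx, hne', hx0⟩)
      · exact Or.inr (Or.inl (by rw [S.dec.dim]; exact h))
  have := ((hL y).1 (hle hy)).2 1
  rwa [one_smul] at this

/-- Two reflections of a block move a given vector of it. -/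
theorem Setup.exists_moved {l : Fin t} {c : V} (hc : c ∈ D l) (hc0 : c ≠ 0) :
    ∃ m ∈ M, m ∈ fixBlocks D ∧ (∀ v, (∀ x ∈ D l, polar Q x v = 0) → m.1 v = v) ∧ m.1 c ≠ c := by
  rcases (show k = 2 ∨ 3 ≤ k by have := S.two_le; omega) with hk | hk
  swap
  · obtain ⟨e₀, he₀, he₀0, hQe₀⟩ := S.exists_sing (i := l) hk
    obtain ⟨e, he, hQe, hec⟩ := exists_singular_polar S.nondeg (S.dec.nd l) he₀ hQe₀ he₀0 hc hc0
    have he0 : e ≠ 0 := fun h => hec (by rw [h, polar_zero_left])
    obtain ⟨v, ⟨hv, hev⟩, hvn⟩ : ∃ v, (v ∈ D l ∧ polar Q e v = 0) ∧ v ∉ F ∙ e := by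
      by_contra! hh
      have h1 : D l ⊓ qperp Q (F ∙ e) ≤ F ∙ e := fun x hx =>
        hh x ⟨hx.1, hx.2 e (Submodule.mem_span_singleton_self e)⟩
      have h2 := Submodule.finrank_mono h1
      have h3 := Submodule.finrank_sup_add_finrank_inf_eq (D l) (qperp Q (F ∙ e))
      have h4 := (D l ⊔ qperp Q (F ∙ e)).finrank_le
      have h5 := finrank_qperp S.nondeg (F ∙ e)
      rw [finrank_span_singleton he0] at h2 h5
      rw [S.dec.dim] at h3
      omega
    obtain ⟨g, hg⟩ := exists_isSiegel S.nondeg hQe hev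
    refine ⟨g, S.siegelIn_block he hv g hg, siegel_mem_fixBlocks S.dec he hv hg,
      fun x hx => hg.fix (hx e he) (hx v hv), fun h => hvn ?_⟩
    rw [hg.2.2, add_assoc, add_eq_left] at h
    have h' : polar Q e c • v ∈ F ∙ e := by
      rw [eq_neg_of_add_eq_zero_left h]
      exact neg_mem (Submodule.smul_mem _ _ (Submodule.mem_span_singleton_self e))
    exact (Submodule.smul_mem_iff _ hec).1 h'
  -- a commutator of two reflections
  suffices h : ∃ a ∈ D l, ∃ b ∈ D l, Q a ≠ 0 ∧ Q b ≠ 0 ∧
      (refl Q a).1 ((refl Q b).1 c) ≠ (refl Q b).1 ((refl Q a).1 c) by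
    obtain ⟨a, ha, b, hb, -, -, hne⟩ := h
    have hfix : ⁅refl Q a, refl Q b⁆ ∈ fixBlocks D := by
      rw [commutatorElement_def, refl_inv, refl_inv]
      exact mul_mem (mul_mem (mul_mem (refl_mem_fixBlocks S.dec ha) (refl_mem_fixBlocks S.dec hb))
        (refl_mem_fixBlocks S.dec ha)) (refl_mem_fixBlocks S.dec hb)
    refine ⟨⁅refl Q a, refl Q b⁆, S.mem_of_fix
      (Subgroup.commutator_mem_commutator (Subgroup.mem_top _) (Subgroup.mem_top _)) hfix, hfix, fun v hv => ?_, ?_⟩
    · rw [commutatorElement_def, refl_inv, refl_inv]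
      show (refl Q a).1 ((refl Q b).1 ((refl Q a).1 ((refl Q b).1 v))) = v
      rw [refl_fix Q (hv b hb), refl_fix Q (hv a ha), refl_fix Q (hv b hb), refl_fix Q (hv a ha)]
    · rw [commutatorElement_def, refl_inv, refl_inv]
      show (refl Q a).1 ((refl Q b).1 ((refl Q a).1 ((refl Q b).1 c))) ≠ c
      intro h
      apply hne
      have h1 := congrArg (fun v => (refl Q b).1 ((refl Q a).1 v)) h
      have r : ∀ x v, (refl Q x).1 ((refl Q x).1 v) = v := fun x v =>
        congrArg (fun g : orthGroup Q => g.1 v) (refl_mul_self Q x)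
      simp only [r] at h1
      exact h1
  by_cases hQc : Q c = 0
  · obtain ⟨s, hs, hQs, hsc⟩ := exists_singular_polar S.nondeg (S.dec.nd l) hc hQc hc0 hc hc0
    set f := (polar Q s c)⁻¹ • s
    have hf : Q f = 0 := by rw [quad_smul', hQs, mul_zero]
    have hfc : polar Q f c = 1 := by rw [polar_smul_l', inv_mul_cancel₀ hsc]
    have hcf : polar Q c f = 1 := by rw [polar_comm]; exact hfc
    have hq : 7 ≤ Fintype.card F := (S.small_two hk).2 ⟨l, c, hc, hc0, hQc⟩
    classical
    obtain ⟨β, hβ⟩ : ∃ β : F, β ∉ ({0, 1, -1} : Finset F) := by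
      by_contra! hh
      have h6 := Finset.card_le_card (show Finset.univ ⊆ ({0, 1, -1} : Finset F) from fun x _ => hh x)
      have h7 := Finset.card_le_three (a := (0 : F)) (b := 1) (c := -1)
      rw [Finset.card_univ] at h6
      omega
    simp only [Finset.mem_insert, Finset.mem_singleton, not_or] at hβ
    obtain ⟨hb0, hb1, hb2⟩ := hβ
    have hfD : f ∈ D l := (D l).smul_mem _ hs
    have hqx : Q (f + c) = 1 := by rw [quad_add', hf, hQc, hfc]; ring
    have hqy : Q (f + β • c) = β := by rw [quad_add', show Q (β • c) = β * β * Q c from quad_smul' .., polar_smul_r', hf, hQc, hfc]; ring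
    refine ⟨f + c, (D l).add_mem hfD hc, f + β • c, (D l).add_mem hfD ((D l).smul_mem _ hc),
      by rw [hqx]; exact one_ne_zero, by rw [hqy]; exact hb0, fun h => ?_⟩
    have hc1 := congrArg (fun v => polar Q f v) h
    simp only [refl_apply, hqx, hqy, polar_sub_right, polar_smul_r', polar_add_left, polar_add_right, polar_smul_l',
      polar_self', hQc, hf, hfc, hcf] at hc1
    field_simp at hc1
    ring_nf at hc1
    have h0 : (β - 1) * (β + 1) = 0 := by linear_combination -hc1
    rcases mul_eq_zero.1 h0 with h0 | h0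
    · exact hb1 (by linear_combination h0)
    · exact hb2 (by linear_combination h0)
  · obtain ⟨y, hy, hyc, hQy, -, hyn⟩ := S.exists_u_two hk hc hQc
    refine ⟨c, hc, y, hy, hQc, hQy, fun h => ?_⟩
    have hd : ((Q y)⁻¹ * (Q c)⁻¹) • c - (2 * (Q y)⁻¹) • y = 0 := by
      rw [← sub_eq_zero] at h
      rw [← h]
      simp only [refl_apply, polar_sub_right, polar_smul_r', polar_self', hyc, polar_comm _ c y]
      match_scalars <;> field_simp <;> ring
    refine hyn ?_
    by_cases h2 : (2 : F) = 0
    · rw [h2, zero_mul, zero_smul, sub_zero, smul_eq_zero] at hd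
      exact absurd (hd.resolve_right hc0) (mul_ne_zero (inv_ne_zero hQy) (inv_ne_zero hQc))
    · refine (Submodule.smul_mem_iff _ (mul_ne_zero h2 (inv_ne_zero hQy))).1 ?_
      rw [← sub_eq_zero.1 hd]
      exact Submodule.smul_mem _ _ (Submodule.mem_span_singleton_self c)

/-- A parameter with a component in a block orthogonal to the axis gives the whole block. -/
theorem Setup.par_block_of_comp {e w : V} (he : Q e = 0) {l p : Fin t} (hpl : p ≠ l)
    (hel : ∀ x ∈ D l, polar Q x e = 0) {W : Submodule F V} (hW : W ≤ D p) (hval : ∀ c : F, ∃ a ∈ W, Q a = c)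
    (hWe : ∀ w ∈ W, polar Q w e = 0) (hw : Par M e w) (hwl : comp S.dec l w ≠ 0) {y : V} (hy : y ∈ D l) :
    Par M e y := by
  classical
  -- a non-zero parameter inside the block
  obtain ⟨a, ha, ha0, hPa⟩ : ∃ a ∈ D l, a ≠ 0 ∧ Par M e a := by
    obtain ⟨m, hmM, hmfix, hmout, hmne⟩ := S.exists_moved (comp_mem S.dec l w) hwl
    have hrest : m.1 (w - comp S.dec l w) = w - comp S.dec l w := hmout _ fun x hx => by
      rw [polar_sub_right, polar_comp S.dec hx, sub_self]
    have he' : m.1 e = e := hmout e hel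
    refine ⟨m.1 (comp S.dec l w) - comp S.dec l w,
      (D l).sub_mem (fixBlocks_apply hmfix (comp_mem S.dec l w)) (comp_mem S.dec l w), sub_ne_zero.2 hmne, ?_⟩
    have h1 := S.par_sub he (par_map hw hmM he') hw
    rw [map_sub] at hrest
    have e1 : m.1 w - w = m.1 (comp S.dec l w) - comp S.dec l w := sub_eq_sub_iff_sub_eq_sub.1 hrest
    rwa [e1] at h1
  have hrefl : ∀ x ∈ D l, ∀ z ∈ D l, Par M e z → Par M e ((refl Q x).1 z) := by
    intro x hx z hz hPz
    obtain ⟨s, hsΩ, hsfix, hsv⟩ := S.corr hW hval (refl Q x)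
    have hm : refl Q x * s ∈ M := S.mem_of_fix hsΩ ((fixBlocks D).mul_mem (refl_mem_fixBlocks S.dec hx) hsfix)
    have h1 := par_map hPz hm (by show (refl Q x).1 (s.1 e) = e; rw [hsv e hWe, refl_fix Q (hel x hx)])
    change Par M e ((refl Q x).1 (s.1 z)) at h1
    rwa [hsv z fun x' hx' => S.dec.orth p l hpl x' (hW hx') z hz] at h1
  obtain ⟨x, hx, hxa, hQx⟩ := S.exists_ns_nonperp ha ha0
  -- a multiple of a non-singular vector
  set μ : F := (Q x)⁻¹ with hμ
  have hμx : Par M e (μ • x) := by
    have h := S.par_sub he hPa (hrefl x hx a ha hPa)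
    rw [refl_apply, hxa, mul_one, sub_sub_cancel] at h
    exact h
  let R : Subring F :=
    { carrier := {c | ∀ ν : F, Par M e (ν • x) → Par M e ((c * ν) • x)}
      mul_mem' := fun {c c'} hc hc' ν hν => by rw [mul_assoc]; exact hc _ (hc' ν hν)
      one_mem' := fun ν hν => by rwa [one_mul]
      add_mem' := fun {c c'} hc hc' ν hν => by
        rw [add_mul, add_smul]; exact S.par_add he (hc ν hν) (hc' ν hν)
      zero_mem' := fun ν _ => by rw [zero_mul, zero_smul]; exact par_zero he
      neg_mem' := fun {c} hc ν hν => by rw [neg_mul, neg_smul]; exact S.par_neg he (hc ν hν) }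
  have hR : ∀ u ∈ D l, polar Q u x = 1 → Q u ≠ 0 → (Q x * Q u)⁻¹ ∈ R := by
    intro u hu hux hQu ν hν
    have hνx : ν • x ∈ D l := (D l).smul_mem _ hx
    have h1 := hrefl u hu _ ((D l).smul_mem _ hx |> fun h => fixBlocks_apply (refl_mem_fixBlocks S.dec hx) h)
      (hrefl x hx _ hνx hν)
    have h2 := hrefl x hx _ (fixBlocks_apply (refl_mem_fixBlocks S.dec hu) hνx) (hrefl u hu _ hνx hν)
    have h3 := S.par_add he (S.par_add he h1 h2) (S.par_add he hν hν)
    convert h3 using 1
    simp only [refl_apply, polar_sub_right, polar_smul_r', polar_self', hux, polar_comm _ x u]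
    match_scalars <;> field_simp <;> ring
  have hall : ∀ c : F, c ∈ R := by
    by_cases hk : k = 2
    · have hplane := S.plane_line hk hx hQx
      obtain ⟨u₀, hu₀, z, hz, hQz, h1, h0, -, hev⟩ := hplane
      let A : Finset F := Finset.univ.image fun b : F => Q (u₀ + b • z)
      have hA : Fintype.card F ≤ 2 * A.card := by
        have := card_image_quad (α := Q u₀) (β := polar Q u₀ z) hQz
        simpa only [A, quad_line] using this
      let B : Finset F := A.image fun τ => (Q x * τ)⁻¹
      have hBcard : B.card = A.card := Finset.card_image_of_injective _ fun τ τ' h => by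
        simpa [hQx] using h
      have hB : ∀ c ∈ insert 0 B, c ∈ R := by
        intro c hc
        rcases Finset.mem_insert.1 hc with rfl | hc
        · exact R.zero_mem
        obtain ⟨τ, hτ, rfl⟩ := Finset.mem_image.1 hc
        obtain ⟨b, -, rfl⟩ := Finset.mem_image.1 hτ
        by_cases hτ0 : Q (u₀ + b • z) = 0
        · rw [hτ0, mul_zero, inv_zero]; exact R.zero_mem
        · exact hR _ ((D l).add_mem hu₀ ((D l).smul_mem _ hz))
            (by rw [polar_add_left, polar_smul_l', h1, h0, mul_zero, add_zero]) hτ0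
      intro c
      by_cases hq : 5 ≤ Fintype.card F
      · refine mem_all_of_small hB ?_ c
        have h6 := Finset.card_le_card (Finset.subset_insert (0 : F) B)
        rw [hBcard] at h6
        nlinarith
      · -- no singular vectors
        have hno : (0 : F) ∉ B := fun h => by
          obtain ⟨τ, hτ, he'⟩ := Finset.mem_image.1 h
          obtain ⟨b, -, rfl⟩ := Finset.mem_image.1 hτ
          rw [inv_eq_zero, mul_eq_zero] at he'
          have hne : u₀ + b • z ≠ 0 := fun h' => by
            have := congrArg (fun v => polar Q v x) h'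
            simp only [polar_add_left, polar_smul_l', h1, h0, mul_zero, add_zero, polar_zero_left] at this
            exact one_ne_zero this
          have := (S.small_two hk).2 ⟨l, _, (D l).add_mem hu₀ ((D l).smul_mem _ hz), hne, he'.resolve_left hQx⟩
          omega
        refine mem_all_of_small hB ?_ c
        rw [Finset.card_insert_of_notMem hno, hBcard]
        nlinarith
    · intro c
      by_cases hc : c = 0
      · rw [hc]; exact R.zero_mem
      rcases (show k = 3 ∨ 4 ≤ k by have := S.two_le; omega) with h3 | h4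
      · obtain ⟨u, hu, hux, hQu⟩ := S.free_three h3 hx (fun h => hQx (by rw [h, QuadraticMap.map_zero])) ((Q x * c)⁻¹)
        have hQu0 : Q u ≠ 0 := by rw [hQu]; exact inv_ne_zero (mul_ne_zero hQx hc)
        have := hR u hu hux hQu0
        rw [hQu] at this
        convert this using 1
        field_simp
      · obtain ⟨u, hu, hux⟩ := S.ne_zero_of_comp hx (fun h => hQx (by rw [h, QuadraticMap.map_zero]))
        -- adjust the value inside the hyperplane
        obtain ⟨u', hu', hu'x, hQu'⟩ : ∃ u' ∈ D l, polar Q u' x = 1 ∧ Q u' = (Q x * c)⁻¹ := by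
          obtain ⟨z, hz, hz0, hQz⟩ := exists_sing_sub (Q := Q) (W := D l ⊓ qperp Q (F ∙ x)) (by
            have h1 := Submodule.finrank_sup_add_finrank_inf_eq (D l) (qperp Q (F ∙ x))
            have h2 := (D l ⊔ qperp Q (F ∙ x)).finrank_le
            have h3 := finrank_qperp S.nondeg (F ∙ x)
            rw [finrank_span_singleton (fun h => hQx (by rw [h, QuadraticMap.map_zero]))] at h3
            rw [S.dec.dim] at h1
            omega)
          have hxz : polar Q x z = 0 := hz.2 x (Submodule.mem_span_singleton_self x)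
          obtain ⟨f, hf, hfz⟩ := S.ne_zero_of_comp hz.1 hz0
          -- a vector of the hyperplane not orthogonal to `z`
          by_cases huz : polar Q u z = 0
          · set f' := f - polar Q f x • u
            have hf'x : polar Q f' x = 0 := by simp only [f', polar_sub_left, polar_smul_l', hux]; ring
            have hf'z : polar Q f' z = 1 := by simp only [f', polar_sub_left, polar_smul_l', hfz, huz]; ring
            set u₁ := u + f'
            have h1x : polar Q u₁ x = 1 := by rw [polar_add_left, hux, hf'x, add_zero]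
            have h1z : polar Q u₁ z = 1 := by rw [polar_add_left, huz, hf'z, zero_add]
            refine ⟨u₁ + ((Q x * c)⁻¹ - Q u₁) • z, (D l).add_mem ((D l).add_mem hu ((D l).sub_mem hf
              ((D l).smul_mem _ hu))) ((D l).smul_mem _ hz.1), ?_, ?_⟩
            · rw [polar_add_left, polar_smul_l', h1x, polar_comm _ z x, hxz]; ring
            · rw [quad_line, h1z, hQz]; ring
          · refine ⟨u + (((Q x * c)⁻¹ - Q u) / polar Q u z) • z, (D l).add_mem hu ((D l).smul_mem _ hz.1), ?_, ?_⟩
            · rw [polar_add_left, polar_smul_l', hux, polar_comm _ z x, hxz]; ring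
            · rw [quad_line, hQz]; field_simp; ring
        have := hR u' hu' hu'x (by rw [hQu']; exact inv_ne_zero (mul_ne_zero hQx hc))
        rw [hQu'] at this
        convert this using 1
        field_simp
  refine S.par_block he hpl hel hW hval hWe hx (fun h => hQx (by rw [h, QuadraticMap.map_zero])) (fun b => ?_) hy
  have := hall (b * Q x) μ hμx
  convert this using 2
  rw [hμ]; field_simp

end CfsgLib.Classical.DecompOrth
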