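import Cfsg.Agent.Lib.Classical.OrthMaxND

/-!
# Orthogonal decompositions: components, block stabilisers, related vectors
-/

set_option autoImplicit false
set_option linter.unusedSectionVars false

open Module QuadraticMap CfsgLib.Orth
open scoped commutatorElement

namespace CfsgLib.Classical.DecompOrth

variable {F V : Type*} [Field F] [AddCommGroup V] [Module F V] [FiniteDimensional F V]
  {Q : QuadraticForm F V} {t k : ℕ} {D : Fin t → Submodule F V}

/-- An orthogonal decomposition into non-degenerate, pairwise isometric blocks of dimension `k`. -/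
structure OrthDec (Q : QuadraticForm F V) {t : ℕ} (k : ℕ) (D : Fin t → Submodule F V) : Prop where
  dim : ∀ i, finrank F (D i) = k
  nd : ∀ i, NdSub Q (D i)
  orth : ∀ i j, i ≠ j → ∀ x ∈ D i, ∀ y ∈ D j, polar Q x y = 0
  sup : iSup D = ⊤
  isom : ∀ i j, ∃ e : D i ≃ₗ[F] D j, ∀ x : D i, Q (e x : V) = Q (x : V)

section Comp

variable (hD : OrthDec Q k D)
include hD

/-- The component of a vector in a block. -/
noncomputable def comp (i : Fin t) (v : V) : V := (ndSub_decomp (hD.nd i) v).choose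

theorem comp_mem (i : Fin t) (v : V) : comp hD i v ∈ D i := (ndSub_decomp (hD.nd i) v).choose_spec.1

theorem polar_comp {i : Fin t} {x : V} (hx : x ∈ D i) (v : V) : polar Q x (comp hD i v) = polar Q x v := by
  obtain ⟨w, hw, e⟩ := (ndSub_decomp (hD.nd i) v).choose_spec.2
  have : polar Q x v = polar Q x (comp hD i v + w) := congrArg (polar Q x) e
  rw [this, polar_add_right, polar_qperp hx hw, add_zero]

theorem polar_comp' {i : Fin t} {x : V} (hx : x ∈ D i) (v : V) : polar Q (comp hD i v) x = polar Q v x := by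
  rw [polar_comm, polar_comp hD hx, polar_comm]

theorem comp_unique {i : Fin t} {x v : V} (hx : x ∈ D i) (h : ∀ y ∈ D i, polar Q y x = polar Q y v) :
    comp hD i v = x := by
  refine sub_eq_zero.1 (ndSub_eq_zero (hD.nd i) ((D i).sub_mem (comp_mem hD i v) hx) fun y hy => ?_)
  show polar Q y _ = 0
  rw [polar_sub_right, polar_comp hD hy, h y hy, sub_self]

theorem comp_eq_zero {i : Fin t} {v : V} : comp hD i v = 0 ↔ ∀ y ∈ D i, polar Q y v = 0 := by
  refine ⟨fun h y hy => by rw [← polar_comp hD hy, h, polar_zero_right], fun h => ?_⟩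
  exact comp_unique hD (D i).zero_mem fun y hy => by rw [h y hy, polar_zero_right]

theorem comp_self {i : Fin t} {v : V} (hv : v ∈ D i) : comp hD i v = v := comp_unique hD hv fun _ _ => rfl

theorem comp_other {i j : Fin t} (h : i ≠ j) {v : V} (hv : v ∈ D j) : comp hD i v = 0 :=
  (comp_eq_zero hD).2 fun y hy => hD.orth i j h y hy v hv

theorem comp_add (i : Fin t) (v w : V) : comp hD i (v + w) = comp hD i v + comp hD i w :=
  comp_unique hD ((D i).add_mem (comp_mem hD i v) (comp_mem hD i w)) fun y hy => by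
    rw [polar_add_right, polar_add_right, polar_comp hD hy, polar_comp hD hy]

theorem comp_smul (i : Fin t) (a : F) (v : V) : comp hD i (a • v) = a • comp hD i v :=
  comp_unique hD ((D i).smul_mem _ (comp_mem hD i v)) fun y hy => by
    rw [polar_smul_r', polar_smul_r', polar_comp hD hy]

theorem comp_neg (i : Fin t) (v : V) : comp hD i (-v) = -comp hD i v := by
  rw [← neg_one_smul F v, comp_smul, neg_one_smul]

theorem comp_sub (i : Fin t) (v w : V) : comp hD i (v - w) = comp hD i v - comp hD i w := by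
  rw [sub_eq_add_neg, comp_add, comp_neg, ← sub_eq_add_neg]

theorem comp_zero (i : Fin t) : comp hD i (0 : V) = 0 := comp_self hD (D i).zero_mem

variable (hQ : (QuadraticMap.polarBilin Q).Nondegenerate)
include hQ

theorem eq_zero_of_blocks {v : V} (h : ∀ i, ∀ y ∈ D i, polar Q y v = 0) : v = 0 := by
  refine eq_zero_of_polar hQ fun w => ?_
  have hw : w ∈ iSup D := hD.sup ▸ Submodule.mem_top
  rw [polar_comm]
  refine Submodule.iSup_induction D (motive := fun w => polar Q w v = 0) hw h (polar_zero_left Q v) fun x y hx hy => ?_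
  rw [polar_add_left, hx, hy, add_zero]

theorem ext_comp {v w : V} (h : ∀ i, comp hD i v = comp hD i w) : v = w :=
  sub_eq_zero.1 (eq_zero_of_blocks hD hQ fun i => (comp_eq_zero hD).1 (by rw [comp_sub, h, sub_self]))

theorem sum_comp (v : V) : ∑ i, comp hD i v = v := by
  classical
  refine sub_eq_zero.1 (eq_zero_of_blocks hD hQ fun i y hy => ?_)
  have e : polar Q y (∑ j, comp hD j v) = ∑ j, polar Q y (comp hD j v) :=
    map_sum (QuadraticMap.polarBilin Q y) _ _
  rw [polar_sub_right, e, Finset.sum_eq_single i (fun j _ hj => hD.orth i j (Ne.symm hj) y hy _ (comp_mem hD j v))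
    (fun h => absurd (Finset.mem_univ i) h), polar_comp hD hy, sub_self]

omit hQ in
theorem quad_sum (s : Finset (Fin t)) (f : Fin t → V) (hf : ∀ i, f i ∈ D i) :
    Q (∑ i ∈ s, f i) = ∑ i ∈ s, Q (f i) := by
  classical
  induction s using Finset.induction with
  | empty => simp
  | insert a s ha ih =>
    have e : polar Q (f a) (∑ i ∈ s, f i) = ∑ i ∈ s, polar Q (f a) (f i) :=
      map_sum (QuadraticMap.polarBilin Q (f a)) _ _
    rw [Finset.sum_insert ha, Finset.sum_insert ha, quad_add', ih, e, Finset.sum_eq_zero fun i hi =>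
      hD.orth a i (fun h => ha (h ▸ hi)) _ (hf a) _ (hf i), add_zero]

theorem quad_eq_sum (v : V) : Q v = ∑ i, Q (comp hD i v) := by
  rw [← quad_sum hD _ _ (fun i => comp_mem hD i v), sum_comp hD hQ]

theorem mem_block {l : Fin t} {v : V} (h : ∀ i, i ≠ l → comp hD i v = 0) : v ∈ D l := by
  rw [← sum_comp hD hQ v, Finset.sum_eq_single l (fun i _ hi => h i hi) (fun h => absurd (Finset.mem_univ l) h)]
  exact comp_mem hD l v

theorem exists_comp_ne {l : Fin t} {v : V} (h : v ∉ D l) : ∃ i, i ≠ l ∧ comp hD i v ≠ 0 := by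
  by_contra! hall
  exact h (mem_block hD hQ hall)

theorem exists_ns_comp {v : V} (h : Q v ≠ 0) : ∃ i, Q (comp hD i v) ≠ 0 := by
  by_contra! hall
  exact h (by rw [quad_eq_sum hD hQ, Finset.sum_eq_zero fun i _ => hall i])

omit hQ in
theorem block_unique {i j : Fin t} {v : V} (hi : v ∈ D i) (hj : v ∈ D j) (h : v ≠ 0) : i = j := by
  by_contra hne
  exact h ((comp_self hD hi).symm.trans (comp_other hD hne hj))

end Comp

/-- `v` lies outside every block. -/
def OffBlock (D : Fin t → Submodule F V) (v : V) : Prop := ∀ i, v ∉ D i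

/-- `g` permutes the blocks. -/
def InH (D : Fin t → Submodule F V) (g : orthGroup Q) : Prop :=
  ∃ σ : Equiv.Perm (Fin t), ∀ i, (D i).map (g.1 : V →ₗ[F] V) = D (σ i)

theorem inH_of_stab {g : orthGroup Q} (h : ∀ i, ∀ x ∈ D i, g.1 x ∈ D i) : InH D g :=
  ⟨1, fun i => mem_stab_of_le (h i)⟩

/-- The isometries fixing every block. -/
def fixBlocks (D : Fin t → Submodule F V) : Subgroup (orthGroup Q) := ⨅ i, stab (Q := Q) (D i)

theorem mem_fixBlocks {g : orthGroup Q} : g ∈ fixBlocks D ↔ ∀ i, g ∈ stab (Q := Q) (D i) := Subgroup.mem_iInf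

theorem inH_of_fixBlocks {g : orthGroup Q} (h : g ∈ fixBlocks D) : InH D g := ⟨1, fun i => mem_fixBlocks.1 h i⟩

theorem fixBlocks_apply {g : orthGroup Q} (h : g ∈ fixBlocks D) {i : Fin t} {x : V} (hx : x ∈ D i) : g.1 x ∈ D i :=
  stab_map' (mem_fixBlocks.1 h i) hx
where
  stab_map' {U : Submodule F V} {g : orthGroup Q} (hg : g ∈ stab (Q := Q) U) {x : V} (hx : x ∈ U) : g.1 x ∈ U :=
    (show U.map (g.1 : V →ₗ[F] V) = U from hg) ▸ ⟨x, hx, rfl⟩

theorem InH.mul_fix {g s : orthGroup Q} (hg : InH D g) (hs : s ∈ fixBlocks D) : InH D (g * s) := by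
  obtain ⟨σ, hσ⟩ := hg
  refine ⟨σ, fun i => ?_⟩
  show (D i).map ((g.1 : V →ₗ[F] V).comp (s.1 : V →ₗ[F] V)) = _
  rw [Submodule.map_comp, show (D i).map (s.1 : V →ₗ[F] V) = D i from mem_fixBlocks.1 hs i, hσ]

theorem refl_mem_fixBlocks (hD : OrthDec Q k D) {i : Fin t} {a : V} (ha : a ∈ D i) :
    refl Q a ∈ fixBlocks D := by
  refine mem_fixBlocks.2 fun j => refl_mem_stab ?_
  by_cases hj : j = i
  · exact Or.inl (hj ▸ ha)
  · exact Or.inr fun u hu => hD.orth i j (Ne.symm hj) a ha u hu

theorem siegel_mem_fixBlocks (hD : OrthDec Q k D) {i : Fin t} {g : orthGroup Q} {e v : V} (he : e ∈ D i)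
    (hv : v ∈ D i) (hg : IsSiegel g e v) : g ∈ fixBlocks D := by
  refine mem_fixBlocks.2 fun j => mem_stab_of_le fun x hx => ?_
  by_cases hj : j = i
  · subst hj
    rw [hg.2.2]
    exact (D j).add_mem ((D j).add_mem hx ((D j).smul_mem _ hv)) ((D j).smul_mem _ he)
  · rw [hg.fix (hD.orth i j (Ne.symm hj) e he x hx) (hD.orth i j (Ne.symm hj) v hv x hx)]
    exact hx

/-- The subgroup `M` contains every element of `Ω` permuting the blocks. -/
def Contains (M : Subgroup (orthGroup Q)) (D : Fin t → Submodule F V) : Prop :=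
  ∀ g ∈ commutator (orthGroup Q), InH D g → g ∈ M

/-- Two non-singular vectors of one square class whose reflection product lies in `M`. -/
def Rel (M : Subgroup (orthGroup Q)) (a b : V) : Prop :=
  Q a ≠ 0 ∧ Q b ≠ 0 ∧ IsSquare (Q a * Q b) ∧ refl Q a * refl Q b ∈ M

theorem Rel.symm {M : Subgroup (orthGroup Q)} {a b : V} (h : Rel M a b) : Rel M b a := by
  obtain ⟨h1, h2, h3, h4⟩ := h
  refine ⟨h2, h1, by rwa [mul_comm], ?_⟩
  have := M.inv_mem h4
  rwa [mul_inv_rev, refl_inv, refl_inv] at this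

theorem isSquare_trans {x y z : F} (hy : y ≠ 0) (h1 : IsSquare (x * y)) (h2 : IsSquare (y * z)) : IsSquare (x * z) := by
  obtain ⟨r, hr⟩ := h1
  obtain ⟨s, hs⟩ := h2
  refine ⟨r * s / y, ?_⟩
  have : r * r * (s * s) = x * z * (y * y) := by rw [← hr, ← hs]; ring
  field_simp
  linear_combination -this

theorem Rel.trans {M : Subgroup (orthGroup Q)} {a b c : V} (h : Rel M a b) (h' : Rel M b c) : Rel M a c := by
  refine ⟨h.1, h'.2.1, isSquare_trans h.2.1 h.2.2.1 h'.2.2.1, ?_⟩
  have := M.mul_mem h.2.2.2 h'.2.2.2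
  rwa [mul_assoc, ← mul_assoc (refl Q b), refl_mul_self, one_mul] at this

theorem Rel.map {M : Subgroup (orthGroup Q)} {a b : V} (h : Rel M a b) {m : orthGroup Q} (hm : m ∈ M) :
    Rel M (m.1 a) (m.1 b) := by
  obtain ⟨h1, h2, h3, h4⟩ := h
  refine ⟨by rwa [apply_quad], by rwa [apply_quad], by rwa [apply_quad, apply_quad], ?_⟩
  rw [← conj_refl, ← conj_refl, show m * refl Q a * m⁻¹ * (m * refl Q b * m⁻¹) = m * (refl Q a * refl Q b) * m⁻¹ by group]
  exact M.mul_mem (M.mul_mem hm h4) (M.inv_mem hm)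

variable [Fintype F]

/-- The common hypotheses: a decomposition of a space of dimension at least thirteen, and `M` containing the
block permuting elements of `Ω`. -/
structure Setup (M : Subgroup (orthGroup Q)) (k : ℕ) (D : Fin t → Submodule F V) : Prop where
  dec : OrthDec Q k D
  nondeg : (QuadraticMap.polarBilin Q).Nondegenerate
  good : Good F V
  two_le : 2 ≤ k
  two_le' : 2 ≤ t
  big : 10 ≤ t * k
  big_three : k = 3 → 4 ≤ t
  rank : 5 ≤ finrank F V
  le : Contains M D
  small_two : k = 2 → Fintype.card F ≠ 3 ∧ ((∃ i, ∃ v ∈ D i, v ≠ 0 ∧ Q v = 0) → 7 ≤ Fintype.card F)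
  small_three : k = 3 → (2 : F) ≠ 0 ∧ 5 ≤ Fintype.card F
  small_four : k = 4 → Fintype.card F = 2 → ∀ i, ∀ U : Submodule F V, U ≤ D i → (∀ x ∈ U, Q x = 0) → finrank F U ≤ 1

variable {M : Subgroup (orthGroup Q)}

theorem Setup.blocks_two {S : Setup M k D} (h : k = 2) : 5 ≤ t := by have := S.big; subst h; omega

theorem Setup.blocks_three {S : Setup M k D} (h : k ≤ 3) : 4 ≤ t := by
  rcases (by have := S.two_le; omega : k = 2 ∨ k = 3) with h | h
  exacts [le_trans (by norm_num) (Setup.blocks_two (S := S) h), S.big_three h]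

variable (S : Setup M k D)
include S

theorem Setup.mem_of_fix {g : orthGroup Q} (hΩ : g ∈ commutator (orthGroup Q)) (h : g ∈ fixBlocks D) : g ∈ M :=
  S.le g hΩ (inH_of_fixBlocks h)

theorem Setup.siegelIn_block {i : Fin t} {e v : V} (he : e ∈ D i) (hv : v ∈ D i) : SiegelIn M e v := fun g hg => by
  obtain ⟨hp⟩ := exists_hypPairs S.nondeg S.rank
  exact S.mem_of_fix (hg.mem_commutator S.nondeg S.good hp S.rank) (siegel_mem_fixBlocks S.dec he hv hg)

theorem Setup.rel_block {i j : Fin t} {x y : V} (hx : x ∈ D i) (hy : y ∈ D j) (hx0 : Q x ≠ 0) (hy0 : Q y ≠ 0)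
    (h : IsSquare (Q x * Q y)) : Rel M x y :=
  ⟨hx0, hy0, h, S.mem_of_fix (refl_pair_mem S.nondeg S.good S.rank hx0 hy0 h)
    ((fixBlocks D).mul_mem (refl_mem_fixBlocks S.dec hx) (refl_mem_fixBlocks S.dec hy))⟩

/-- Correct an isometry into `Ω` by reflections of vectors in `W`. -/
theorem Setup.corr {p : Fin t} {W : Submodule F V} (hW : W ≤ D p) (hval : ∀ c : F, ∃ a ∈ W, Q a = c)
    (g : orthGroup Q) : ∃ s, g * s ∈ commutator (orthGroup Q) ∧ s ∈ fixBlocks D ∧
      ∀ v, (∀ w ∈ W, polar Q w v = 0) → s.1 v = v := by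
  set R : Subgroup (orthGroup Q) := Subgroup.closure (refl Q '' (W : Set V))
  have hR : ∀ s ∈ R, s ∈ fixBlocks D ∧ ∀ v, (∀ w ∈ W, polar Q w v = 0) → s.1 v = v := by
    intro s hs
    induction hs using Subgroup.closure_induction with
    | mem x hx =>
      obtain ⟨a, ha, rfl⟩ := hx
      exact ⟨refl_mem_fixBlocks S.dec (hW ha), fun v hv => refl_fix Q (hv a ha)⟩
    | one => exact ⟨one_mem _, fun v _ => rfl⟩
    | mul x y _ _ hx hy =>
      exact ⟨mul_mem hx.1 hy.1, fun v hv => by show x.1 (y.1 v) = v; rw [hy.2 v hv, hx.2 v hv]⟩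
    | inv x _ hx =>
      refine ⟨inv_mem hx.1, fun v hv => ?_⟩
      conv_lhs => rw [← hx.2 v hv]
      exact x.1.symm_apply_apply v
  obtain ⟨s, hs, he⟩ := exists_mem_ab_eq S.nondeg S.good R (fun b hb => by
    obtain ⟨a, ha, hQa⟩ := hval (Q b)
    exact ⟨refl Q a, Subgroup.subset_closure ⟨a, ha, rfl⟩,
      ab_refl_eq S.nondeg S.good (hQa ▸ hb) hb ⟨Q b, by rw [hQa]⟩⟩) g⁻¹
  exact ⟨s, by rw [Orth.mem_commutator_iff, map_mul, he, map_inv, mul_inv_cancel], hR s hs⟩

theorem Setup.values_block (p : Fin t) (c : F) : ∃ a ∈ D p, Q a = c := by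
  refine exists_value (Q := Q) (D p) ?_ c
  have hR : D p ⊓ LinearMap.BilinForm.orthogonal (QuadraticMap.polarBilin Q) (D p) = ⊥ :=
    (Submodule.eq_bot_iff _).2 fun x hx => ndSub_eq_zero (S.dec.nd p) hx.1 hx.2
  rw [hR, finrank_bot, S.dec.dim]
  exact S.two_le

/-- Values of the hyperplane `c^⊥` of a block. -/
theorem Setup.values_perp {p : Fin t} {c : V} (hc : c ∈ D p) (h : 4 ≤ k ∨ (3 ≤ k ∧ Q c ≠ 0 ∧ (2 : F) ≠ 0)) (a : F) :
    ∃ x ∈ D p ⊓ qperp Q (F ∙ c), Q x = a := by
  set W := D p ⊓ qperp Q (F ∙ c)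
  refine exists_value (Q := Q) W ?_ a
  set R := W ⊓ LinearMap.BilinForm.orthogonal (QuadraticMap.polarBilin Q) W
  have hdimW : k ≤ finrank F W + 1 := by
    have h1 := Submodule.finrank_sup_add_finrank_inf_eq (D p) (qperp Q (F ∙ c))
    have h2 := (D p ⊔ qperp Q (F ∙ c)).finrank_le
    have h3 := finrank_qperp S.nondeg (F ∙ c)
    have h5 : finrank F (F ∙ c : Submodule F V) ≤ 1 := by
      by_cases h0 : c = 0
      · rw [h0, Submodule.span_zero_singleton, finrank_bot]; exact Nat.zero_le 1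
      · exact (finrank_span_singleton h0).le
    rw [S.dec.dim p] at h1
    change _ + finrank F W = _ at h1
    omega
  rcases h with h | ⟨h, hQc, h2⟩
  · have hRdim : finrank F R ≤ 1 := by
      by_cases hle : D p ≤ qperp Q (F ∙ c)
      · have hR : R = ⊥ := (Submodule.eq_bot_iff _).2 fun x hx => by
          have e : W = D p := inf_eq_left.2 hle
          exact ndSub_eq_zero (S.dec.nd p) hx.1.1 (e ▸ hx.2)
        rw [hR, finrank_bot]; exact Nat.zero_le 1
      obtain ⟨u, hu, hu'⟩ := SetLike.not_le_iff_exists.1 hle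
      have hu0 : polar Q c u ≠ 0 := fun h0 => hu' fun x hx => by
        obtain ⟨s, rfl⟩ := Submodule.mem_span_singleton.1 hx
        show polar Q (s • c) u = 0
        rw [polar_smul_l', h0, mul_zero]
      have hinj : Function.Injective ((QuadraticMap.polarBilin Q u).comp R.subtype) := by
        rw [injective_iff_map_eq_zero]
        intro x hx
        refine Subtype.ext (ndSub_eq_zero (S.dec.nd p) x.2.1.1 fun y hy => ?_)
        show polar Q y (x : V) = 0
        have hy' : y - (polar Q c y / polar Q c u) • u ∈ W := ⟨(D p).sub_mem hy ((D p).smul_mem _ hu), fun z hz => by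
          obtain ⟨s, rfl⟩ := Submodule.mem_span_singleton.1 hz
          show polar Q (s • c) _ = 0
          rw [polar_smul_l', polar_sub_right, polar_smul_r', div_mul_cancel₀ _ hu0, sub_self, mul_zero]⟩
        have h1 : polar Q (y - (polar Q c y / polar Q c u) • u) (x : V) = 0 := x.2.2 _ hy'
        rw [polar_sub_left, polar_smul_l', show polar Q u (x : V) = 0 from hx, mul_zero, sub_zero] at h1
        exact h1
      have := LinearMap.finrank_le_finrank_of_injective hinj
      rwa [finrank_self] at this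
    omega
  · have hR : R = ⊥ := (Submodule.eq_bot_iff _).2 fun x hx => ndSub_eq_zero (S.dec.nd p) hx.1.1 fun y hy => by
      show polar Q y x = 0
      have hcx : polar Q c x = 0 := hx.1.2 c (Submodule.mem_span_singleton_self c)
      have hy' : y - (polar Q c y / polar Q c c) • c ∈ W := ⟨(D p).sub_mem hy ((D p).smul_mem _ hc), fun z hz => by
        obtain ⟨s, rfl⟩ := Submodule.mem_span_singleton.1 hz
        show polar Q (s • c) _ = 0
        rw [polar_smul_l', polar_sub_right, polar_smul_r', div_mul_cancel₀ _ (by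
          rw [polar_self']; exact mul_ne_zero h2 hQc), sub_self, mul_zero]⟩
      have h1 : polar Q (y - (polar Q c y / polar Q c c) • c) x = 0 := hx.2 _ hy'
      rwa [polar_sub_left, polar_smul_l', hcx, mul_zero, sub_zero] at h1
    rw [hR, finrank_bot]
    omega

/-- An element of `Ω` interchanging two blocks, corrected inside `W`. -/
theorem Setup.exists_swap {i j p : Fin t} (hij : i ≠ j) (hpi : p ≠ i) (hpj : p ≠ j) {W : Submodule F V} (hW : W ≤ D p)
    (hval : ∀ c : F, ∃ a ∈ W, Q a = c) : ∃ g ∈ M, (D i).map (g.1 : V →ₗ[F] V) = D j ∧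
      (∀ v, comp S.dec i v = 0 → comp S.dec j v = 0 → (∀ w ∈ W, polar Q w v = 0) → g.1 v = v) ∧ InH D g := by
  classical
  obtain ⟨e, he⟩ := S.dec.isom i j
  let π : ∀ l, V →ₗ[F] D l := fun l =>
    { toFun := fun v => ⟨comp S.dec l v, comp_mem S.dec l v⟩
      map_add' := fun v w => Subtype.ext (comp_add S.dec l v w)
      map_smul' := fun a v => Subtype.ext (comp_smul S.dec l a v) }
  let f : V →ₗ[F] V := LinearMap.id - (D i).subtype ∘ₗ π i - (D j).subtype ∘ₗ π j +
    (D j).subtype ∘ₗ (e : D i →ₗ[F] D j) ∘ₗ π i + (D i).subtype ∘ₗ (e.symm : D j →ₗ[F] D i) ∘ₗ π j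
  have hfv : ∀ v, f v = v - (π i v : V) - (π j v : V) + (e (π i v) : V) + (e.symm (π j v) : V) := fun v => rfl
  have hes : ∀ y : D j, Q (e.symm y : V) = Q (y : V) := fun y => by
    rw [← he (e.symm y), e.apply_symm_apply]
  have hc : ∀ (l : Fin t) v, comp S.dec l (f v) = if l = i then (e.symm (π j v) : V) else
      if l = j then (e (π i v) : V) else comp S.dec l v := by
    intro l v
    rw [hfv, comp_add, comp_add, comp_sub, comp_sub]
    show comp S.dec l v - comp S.dec l (comp S.dec i v) - comp S.dec l (comp S.dec j v) + _ + _ = _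
    split_ifs with h1 h2
    · subst h1
      rw [comp_self S.dec (comp_mem S.dec l v), comp_other S.dec hij (comp_mem S.dec j v),
        comp_other S.dec hij (e (π l v)).2, comp_self S.dec (e.symm (π j v)).2]
      abel
    · subst h2
      rw [comp_self S.dec (comp_mem S.dec l v), comp_other S.dec h1 (comp_mem S.dec i v),
        comp_self S.dec (e (π i v)).2, comp_other S.dec h1 (e.symm (π l v)).2]
      abel
    · rw [comp_other S.dec h1 (comp_mem S.dec i v), comp_other S.dec h2 (comp_mem S.dec j v),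
        comp_other S.dec h2 (e (π i v)).2, comp_other S.dec h1 (e.symm (π j v)).2]
      abel
  have hf : ∀ v, Q (f v) = Q v := fun v => by
    rw [quad_eq_sum S.dec S.nondeg, quad_eq_sum S.dec S.nondeg v]
    refine Fintype.sum_equiv (Equiv.swap i j) _ _ fun l => ?_
    rw [hc]
    split_ifs with h1 h2
    · rw [h1, Equiv.swap_apply_left, hes]; rfl
    · rw [h2, Equiv.swap_apply_right, he]; rfl
    · rw [Equiv.swap_apply_of_ne_of_ne h1 h2]
  obtain ⟨g₀, hg₀⟩ := exists_of_preserving S.nondeg f hf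
  obtain ⟨s, hsΩ, hsfix, hsv⟩ := S.corr hW hval g₀
  have hH : InH D g₀ := by
    refine ⟨Equiv.swap i j, fun l => Submodule.eq_of_le_of_finrank_eq ?_ (by
      rw [LinearEquiv.finrank_map_eq, S.dec.dim, S.dec.dim])⟩
    rintro _ ⟨x, hx, rfl⟩
    show g₀.1 x ∈ _
    rw [hg₀]
    refine mem_block S.dec S.nondeg fun m hm => ?_
    rw [hc]
    split_ifs with h1 h2
    · have hlj : l ≠ j := fun h => hm (by rw [h, Equiv.swap_apply_right, h1])
      rw [show π j x = 0 from Subtype.ext (comp_other S.dec hlj.symm hx), map_zero]; rfl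
    · have hli : l ≠ i := fun h => hm (by rw [h, Equiv.swap_apply_left, h2])
      rw [show π i x = 0 from Subtype.ext (comp_other S.dec hli.symm hx), map_zero]; rfl
    · exact comp_other S.dec (fun h => hm (by rw [← h, Equiv.swap_apply_of_ne_of_ne h1 h2])) hx
  refine ⟨g₀ * s, S.le _ hsΩ (hH.mul_fix hsfix), ?_, fun v h1 h2 h3 => ?_, hH.mul_fix hsfix⟩
  · obtain ⟨σ, hσ⟩ := hH.mul_fix hsfix
    refine Submodule.eq_of_le_of_finrank_eq ?_ (by rw [LinearEquiv.finrank_map_eq, S.dec.dim, S.dec.dim])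
    rintro _ ⟨x, hx, rfl⟩
    show g₀.1 (s.1 x) ∈ D j
    have hsx : s.1 x = x := hsv x fun w hw => S.dec.orth p i hpi w (hW hw) x hx
    rw [hsx, hg₀, hfv]
    rw [show π j x = 0 from Subtype.ext (comp_other S.dec hij.symm hx), map_zero]
    show x - comp S.dec i x - 0 + (e (π i x) : V) + 0 ∈ D j
    rw [comp_self S.dec hx, sub_self, sub_zero, zero_add, add_zero]
    exact (e (π i x)).2
  · show g₀.1 (s.1 v) = v
    rw [hsv v h3, hg₀, hfv, show π i v = 0 from Subtype.ext h1, show π j v = 0 from Subtype.ext h2, map_zero, map_zero]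
    simp

end CfsgLib.Classical.DecompOrth
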