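import Cfsg.Agent.Lib.Classical.DecompOrth.Pairs
import Cfsg.Agent.Lib.Classical.OrthMaxPair
import Cfsg.Agent.Lib.Classical.OrthMaxBasic

/-!
# Stabilisers of orthogonal decompositions are maximal in `Ω(Q)`
-/

set_option autoImplicit false
set_option linter.unusedSectionVars false

open Module QuadraticMap CfsgLib.Orth

namespace CfsgLib.Classical.DecompOrth

variable {F V : Type*} [Field F] [AddCommGroup V] [Module F V] [FiniteDimensional F V] [Fintype F]
  {Q : QuadraticForm F V} {t k : ℕ} {D : Fin t → Submodule F V} {M : Subgroup (orthGroup Q)}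

theorem Setup.exists_not_inH (S : Setup M k D) : ∃ g ∈ commutator (orthGroup Q), ¬ InH D g := by
  classical
  have ht := S.two_le'
  set i : Fin t := ⟨0, by omega⟩
  set j : Fin t := ⟨1, by omega⟩
  have hij : i ≠ j := fun h => by simpa [i, j] using congrArg Fin.val h
  obtain ⟨x, hx, hQx⟩ := S.values_block i 1
  have hx0 : x ≠ 0 := fun h => by rw [h, QuadraticMap.map_zero] at hQx; exact zero_ne_one hQx
  obtain ⟨b, hQb, hbi, hbj⟩ : ∃ b, Q b = 1 ∧ comp S.dec i b ≠ 0 ∧ comp S.dec j b ≠ 0 := by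
    by_cases h3 : 3 ≤ t
    · set l : Fin t := ⟨2, by omega⟩
      have hil : i ≠ l := fun h => by simpa [i, l] using congrArg Fin.val h
      have hjl : j ≠ l := fun h => by simpa [j, l] using congrArg Fin.val h
      obtain ⟨y, hy, hQy⟩ := S.values_block j (-1)
      obtain ⟨z, hz, hQz⟩ := S.values_block l 1
      refine ⟨x + y + z, ?_, ?_, ?_⟩
      · rw [quad_add', quad_add', polar_add_left, hQx, hQy, hQz, S.dec.orth i j hij x hx y hy,
          S.dec.orth i l hil x hx z hz, S.dec.orth j l hjl y hy z hz]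
        ring
      · rw [comp_add, comp_add, comp_self S.dec hx, comp_other S.dec hij hy, comp_other S.dec hil hz, add_zero,
          add_zero]
        exact hx0
      · rw [comp_add, comp_add, comp_other S.dec (Ne.symm hij) hx, comp_self S.dec hy, comp_other S.dec hjl hz,
          zero_add, add_zero]
        intro h
        rw [h, QuadraticMap.map_zero] at hQy
        exact neg_ne_zero.2 one_ne_zero hQy.symm
    · have hk : 3 ≤ k := by
        have h2 : t = 2 := by omega
        have := S.big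
        subst h2
        omega
      obtain ⟨e, he, he0, hQe⟩ := S.exists_sing (i := j) hk
      refine ⟨x + e, by rw [quad_add', hQx, hQe, S.dec.orth i j hij x hx e he]; ring, ?_, ?_⟩
      · rwa [comp_add, comp_self S.dec hx, comp_other S.dec hij he, add_zero]
      · rwa [comp_add, comp_other S.dec (Ne.symm hij) hx, comp_self S.dec he, zero_add]
  obtain ⟨g, hg⟩ := exists_map_eq S.nondeg S.good (u := x) (w := b) hx0
    (fun h => by rw [h, QuadraticMap.map_zero] at hQb; exact zero_ne_one hQb) (hQx.trans hQb.symm)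
  obtain ⟨s, hsΩ, -, hsv⟩ := S.corr (le_refl (D j)) (S.values_block j) g
  refine ⟨g * s, hsΩ, fun ⟨σ, hσ⟩ => ?_⟩
  have hmem : b ∈ D (σ i) := hσ i ▸ ⟨x, hx, by
    show g.1 (s.1 x) = b
    rw [hsv x fun w hw => S.dec.orth j i (Ne.symm hij) w hw x hx, hg]⟩
  by_cases hσi : σ i = i
  · exact hbj (comp_other S.dec (fun h => hij (hσi.symm.trans h.symm)) hmem)
  · exact hbi (comp_other S.dec (Ne.symm hσi) hmem)

end CfsgLib.Classical.DecompOrth

namespace CfsgLib.Classical.DecompOrth

variable {F : Type*} [Field F] [Fintype F] {ι : Type} [Fintype ι] [DecidableEq ι] {Qf : (ι → F) → F}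

theorem two_ne_zero_of_odd (h : Odd (Fintype.card F)) : (2 : F) ≠ 0 := fun h2 => by
  haveI : CharP F 2 := CharTwo.of_one_ne_zero_of_two_eq_zero one_ne_zero h2
  have := FiniteField.even_card_of_char_two (ringChar.eq F 2)
  obtain ⟨a, ha⟩ := h
  omega

theorem card_ge_five (h : Odd (Fintype.card F)) (h3 : Fintype.card F ≠ 3) : 5 ≤ Fintype.card F := by
  have := Fintype.one_lt_card (α := F)
  obtain ⟨a, ha⟩ := h
  omega

theorem card_ne_six : Fintype.card F ≠ 6 := fun h => by
  obtain ⟨p, n, hp, -, e⟩ := (isPrimePow_nat_iff _).1 (h ▸ Fintype.isPrimePow_card_of_field (α := F))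
  have h2 : p ∣ 2 ∨ p ∣ 3 := by
    have hd : p ∣ 2 * 3 := by
      rw [show 2 * 3 = p ^ n by omega]
      exact dvd_pow_self p (fun h0 => by rw [h0, pow_zero] at e; omega)
    exact hp.dvd_mul.1 hd
  rcases h2 with h2 | h2
  · have hp2 := (Nat.prime_dvd_prime_iff_eq hp Nat.prime_two).1 h2
    subst hp2
    have h3 : 3 ∣ 2 ^ n := ⟨2, by omega⟩
    have := Nat.prime_three.dvd_of_dvd_pow h3
    omega
  · have hp3 := (Nat.prime_dvd_prime_iff_eq hp Nat.prime_three).1 h2
    subst hp3
    have h3 : 2 ∣ 3 ^ n := ⟨3, by omega⟩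
    have := Nat.prime_two.dvd_of_dvd_pow h3
    omega

theorem plus_transfer {t m : ℕ} {D : Fin t → Submodule F (ι → F)}
    (hD : Cfsg.Geo.IsOrthogonalMDecomposition Qf m D) {i : Fin t} (h : Cfsg.Geo.IsPlusTypeOn Qf (D i)) (j : Fin t) :
    Cfsg.Geo.IsPlusTypeOn Qf (D j) := by
  obtain ⟨U, hU, hUs, hUd⟩ := h
  obtain ⟨e, he⟩ := hD.isometric i j
  refine ⟨(U.comap (D i).subtype).map ((D j).subtype ∘ₗ (e : D i →ₗ[F] D j)), ?_, ?_, ?_⟩
  · rintro _ ⟨x, -, rfl⟩
    exact (e x).2
  · rintro _ ⟨x, hx, rfl⟩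
    exact (he x).trans (hUs _ hx)
  · rw [← LinearEquiv.finrank_eq (Submodule.equivMapOfInjective _
      (show Function.Injective ((D j).subtype ∘ₗ (e : D i →ₗ[F] D j)) from fun a b h => e.injective (Subtype.ext h)) _),
      LinearEquiv.finrank_eq (Submodule.comapSubtypeEquivOfLe hU), hUd]
    exact e.finrank_eq

theorem card_eq {t m : ℕ} {D : Fin t → Submodule F (ι → F)} (hD : Cfsg.Geo.IsMDecomposition m D) :
    t * m = Fintype.card ι := by
  classical
  have hsup := DirectSum.isInternal_submodule_of_iSupIndep_of_iSup_eq_top hD.indep hD.iSup_eq_top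
  have h := LinearEquiv.finrank_eq (LinearEquiv.ofBijective (DirectSum.coeLinearMap D) hsup)
  rw [Module.finrank_directSum, Module.finrank_fintype_fun_eq_card] at h
  rw [← h, Finset.sum_congr rfl fun i _ => hD.finrank_eq i, Finset.sum_const, Finset.card_univ, Fintype.card_fin,
    smul_eq_mul]

/-- Maximality of the stabiliser of an orthogonal decomposition. -/
theorem decomp_isMaximalIn (hQf : Cfsg.Geo.IsNondegenerateQuadraticForm Qf) (hn : 10 ≤ Fintype.card ι) {t k : ℕ}
    (hk : 2 ≤ k) (D : Fin t → Submodule F (ι → F)) (hD : Cfsg.Geo.IsOrthogonalMDecomposition Qf k D)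
    (h2 : k = 2 → Fintype.card F ≠ 3 ∧ ((∀ i, Cfsg.Geo.IsPlusTypeOn Qf (D i)) → 7 ≤ Fintype.card F))
    (h3 : k = 3 → (2 : F) ≠ 0 ∧ 5 ≤ Fintype.card F)
    (h4 : k = 4 → Fintype.card F = 2 → ¬ ∀ i, Cfsg.Geo.IsPlusTypeOn Qf (D i))
    (h12 : k = 3 → 12 ≤ Fintype.card ι) :
    Cfsg.Geo.IsMaximalIn (Cfsg.Geo.omegaGL Qf) (Cfsg.Geo.decompositionStabilizer D ⊓ Cfsg.Geo.omegaGL Qf) := by
  classical
  obtain ⟨Q, hQ, hnd⟩ := exists_quadOf hQf
  have hfun : Qf = ⇑Q := funext hQ
  subst hfun
  have hdec : OrthDec Q k D := by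
    refine ⟨hD.decomp.decomp.finrank_eq, fun i => ndSub_of_on fun w hw hw0 => (hD.decomp.nondegenerate i w hw hw0).2,
      fun i j hij x hx y hy => hD.decomp.orthogonal i j hij x hx y hy, hD.decomp.decomp.iSup_eq_top, hD.isometric⟩
  have hdim : finrank F (ι → F) = Fintype.card ι := Module.finrank_fintype_fun_eq_card F
  have htk : t * k = Fintype.card ι := card_eq hD.decomp.decomp
  have mk : ∀ M : Subgroup (orthGroup Q), Contains M D → Setup M k D := fun M hM =>
    { dec := hdec
      nondeg := hnd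
      good := good_of (Or.inr (by omega))
      two_le := hk
      two_le' := hD.decomp.decomp.two_le
      big := by omega
      big_three := fun hk3 => by have := h12 hk3; subst hk3; omega
      rank := by omega
      le := hM
      small_two := fun hk2 => ⟨(h2 hk2).1, fun ⟨i, v, hv, hv0, hQv⟩ => (h2 hk2).2 fun j =>
        plus_transfer hD (i := i) ⟨F ∙ v, (Submodule.span_singleton_le_iff_mem _ _).2 hv, fun x hx => by
          obtain ⟨a, rfl⟩ := Submodule.mem_span_singleton.1 hx
          rw [quad_smul', hQv, mul_zero], by rw [finrank_span_singleton hv0, hdec.dim, hk2]⟩ j⟩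
      small_three := h3
      small_four := fun hk4 hq i U hU hUs => by
        by_contra! hlt
        refine h4 hk4 hq fun j => plus_transfer hD (i := i) ⟨U, hU, hUs, ?_⟩ j
        have h1 := singular_finrank_le (hdec.nd i) (U.comap (D i).subtype) (fun x hx => hUs _ hx)
        rw [LinearEquiv.finrank_eq (Submodule.comapSubtypeEquivOfLe hU), hdec.dim] at h1
        rw [hdec.dim]
        omega }
  have hiff : ∀ g, orthToGL Q (fun _ => rfl) g ∈ Cfsg.Geo.decompositionStabilizer D ↔ InH D g :=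
    fun g => orthToGL_mem_decomp Q (fun _ => rfl) D g
  refine omega_isMaximalIn_inf Q (fun _ => rfl) _ ?_ fun M hM g hg _ hgH => ?_
  · obtain ⟨g, hg, hgH⟩ := (mk ⊤ fun _ _ _ => Subgroup.mem_top _).exists_not_inH
    exact ⟨g, hg, fun h => hgH ((hiff g).1 h)⟩
  · exact (mk M fun y hy hH => hM y hy ((hiff y).2 hH)).main hg fun h => hgH ((hiff g).2 h)

end CfsgLib.Classical.DecompOrth
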