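import Cfsg.Agent.Lib.Classical.DecompOrth.Seed

/-!
# A vector outside all blocks related to a block vector gives all of `Ω`
-/

set_option autoImplicit false
set_option linter.unusedSectionVars false

open Module QuadraticMap CfsgLib.Orth

namespace CfsgLib.Classical.DecompOrth

variable {F V : Type*} [Field F] [AddCommGroup V] [Module F V] [FiniteDimensional F V] [Fintype F]
  {Q : QuadraticForm F V} {t k : ℕ} {D : Fin t → Submodule F V} {M : Subgroup (orthGroup Q)}
variable (S : Setup M k D)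
include S

/-- `b` is related to a vector of a block. -/
def RelBlock (M : Subgroup (orthGroup Q)) (D : Fin t → Submodule F V) (b : V) : Prop :=
  ∃ y i, y ∈ D i ∧ Rel M b y

theorem Setup.relBlock_map {b : V} (hb : RelBlock M D b) {h : orthGroup Q} (hM : h ∈ M) (hH : InH D h) :
    Rel M b (h.1 b) := by
  obtain ⟨y, i, hy, hrel⟩ := hb
  obtain ⟨σ, hσ⟩ := hH
  have hhy : h.1 y ∈ D (σ i) := hσ i ▸ ⟨y, hy, rfl⟩
  exact (hrel.trans (S.rel_block hy hhy hrel.2.1 (by rw [apply_quad]; exact hrel.2.1)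
    ⟨Q y, by rw [apply_quad]⟩)).trans (hrel.map hM).symm

/-- A singular difference `b' - b` of related vectors gives `Ω`. -/
theorem Setup.top_of_rel {b b' d : V} (hrel : Rel M b b') (hQ' : Q b' = Q b) (hd : b' = b + d) (hd0 : d ≠ 0)
    (hQd : Q d = 0) {r : Fin t} (hrd : comp S.dec r d = 0) (hrb : comp S.dec r b ≠ 0)
    (hsize : (∃ T : Finset (Fin t), T.card + 3 ≤ t ∧ ∀ p, p ∉ T → comp S.dec p d = 0) ∨
      ((∃ p, d ∈ D p) ∧ 4 ≤ k) ∨
      (∃ T : Finset (Fin t), T.card + 2 ≤ t ∧ (∀ p, p ∉ T → comp S.dec p d = 0) ∧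
        k = 3 ∧ ∃ p, Q (comp S.dec p d) ≠ 0)) : commutator (orthGroup Q) ≤ M := by
  have hQb := hrel.1
  have hbd : polar Q b d = 0 := by
    have := hQ'
    rw [hd, quad_add', hQd] at this
    linear_combination this
  set e := (Q b)⁻¹ • d with he_def
  have he0 : e ≠ 0 := smul_ne_zero (inv_ne_zero hQb) hd0
  have he : Q e = 0 := by rw [he_def, quad_smul', hQd, mul_zero]
  have heb : polar Q e b = 0 := by rw [he_def, polar_smul_l', polar_comm, hbd, mul_zero]
  refine S.top he he0 (w := b) ⟨heb, fun g hg => ?_⟩ (l := r) (by rw [he_def, comp_smul, hrd, smul_zero]) hrb ?_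
  · have e' : g = refl Q b * refl Q b' := by
      rw [show b' = b + Q b • e by rw [hd, he_def, smul_smul, mul_inv_cancel₀ hQb, one_smul]]
      exact Subtype.ext (LinearEquiv.ext fun v => (hg.2.2 v).trans (siegel_eq_refl S.nondeg he heb hQb v).symm)
    rw [e']
    exact hrel.2.2.2
  · rcases hsize with ⟨T, hT, hTd⟩ | ⟨⟨p, hp⟩, hk⟩ | ⟨T, hT, hTd, hk, p, hp⟩
    · refine Or.inl ((Nat.add_le_add_right (Finset.card_le_card fun p hp => ?_) 3).trans hT)
      by_contra hne
      exact S.mem_supp.1 hp (by rw [he_def, comp_smul, hTd p hne, smul_zero])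
    · exact Or.inr (Or.inl ⟨⟨p, (D p).smul_mem _ hp⟩, hk⟩)
    · refine Or.inr (Or.inr ⟨(Nat.add_le_add_right (Finset.card_le_card fun p hp => ?_) 2).trans hT, hk, p, ?_⟩)
      · by_contra hne
        exact S.mem_supp.1 hp (by rw [he_def, comp_smul, hTd p hne, smul_zero])
      · rw [he_def, comp_smul, quad_smul']
        exact mul_ne_zero (mul_ne_zero (inv_ne_zero hQb) (inv_ne_zero hQb)) hp

/-- A singular difference `h b - b` gives `Ω`. -/
theorem Setup.top_of_diff {b d : V} (hb : RelBlock M D b) {h : orthGroup Q} (hΩ : h ∈ commutator (orthGroup Q))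
    (hH : InH D h) (hd : h.1 b = b + d) (hd0 : d ≠ 0) (hQd : Q d = 0) {r : Fin t} (hrd : comp S.dec r d = 0)
    (hrb : comp S.dec r b ≠ 0)
    (hsize : (∃ T : Finset (Fin t), T.card + 3 ≤ t ∧ ∀ p, p ∉ T → comp S.dec p d = 0) ∨
      ((∃ p, d ∈ D p) ∧ 4 ≤ k) ∨
      (∃ T : Finset (Fin t), T.card + 2 ≤ t ∧ (∀ p, p ∉ T → comp S.dec p d = 0) ∧
        k = 3 ∧ ∃ p, Q (comp S.dec p d) ≠ 0)) : commutator (orthGroup Q) ≤ M :=
  S.top_of_rel (S.relBlock_map hb (S.le h hΩ hH) hH) (apply_quad h b) hd hd0 hQd hrd hrb hsize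

theorem Setup.finish_large (hk : 4 ≤ k) {b : V} (hb : RelBlock M D b) (hoff : OffBlock D b) :
    commutator (orthGroup Q) ≤ M := by
  obtain ⟨y, i, hy, hrel⟩ := hb
  obtain ⟨l, hl⟩ := exists_ns_comp S.dec S.nondeg hrel.1
  obtain ⟨r, hrl, hr⟩ := exists_comp_ne S.dec S.nondeg (hoff l)
  set c := comp S.dec l b
  have hc : c ∈ D l := comp_mem S.dec l b
  have hc0 : c ≠ 0 := fun h => hl (by rw [h, QuadraticMap.map_zero])
  obtain ⟨e, heW, he0, hQe⟩ := exists_sing_sub (Q := Q) (W := D l ⊓ qperp Q (F ∙ c)) (by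
    have h1 := Submodule.finrank_sup_add_finrank_inf_eq (D l) (qperp Q (F ∙ c))
    have h2 := (D l ⊔ qperp Q (F ∙ c)).finrank_le
    have h3 := finrank_qperp S.nondeg (F ∙ c)
    rw [finrank_span_singleton hc0] at h3
    rw [S.dec.dim] at h1
    omega)
  have hec : polar Q e b = 0 := by
    rw [← polar_comp S.dec heW.1, polar_comm]
    exact heW.2 c (Submodule.mem_span_singleton_self c)
  have hcn : c ∉ F ∙ e := fun h => by
    obtain ⟨a, ha⟩ := Submodule.mem_span_singleton.1 h
    exact hl (by show Q c = 0; rw [← ha, quad_smul', hQe, mul_zero])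
  obtain ⟨z, hz1, hz2⟩ := exists_polar_one S.nondeg hcn
  set v := comp S.dec l z
  have hv : v ∈ D l := comp_mem S.dec l z
  have hev : polar Q e v = 0 := by
    rw [polar_comp S.dec heW.1, polar_comm]; exact hz1 e (Submodule.mem_span_singleton_self e)
  have hvb : polar Q v b = 1 := by rw [← polar_comp S.dec hv, polar_comp' S.dec hc]; exact hz2
  obtain ⟨h, hh⟩ := exists_isSiegel S.nondeg hQe hev
  obtain ⟨hp⟩ := exists_hypPairs S.nondeg S.rank
  refine S.top_of_diff ⟨y, i, hy, hrel⟩ (hh.mem_commutator S.nondeg S.good hp S.rank)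
    (inH_of_fixBlocks (siegel_mem_fixBlocks S.dec heW.1 hv hh)) (d := -e) ?_ (neg_ne_zero.2 he0)
    (by rw [QuadraticMap.map_neg, hQe]) (r := r) (by rw [comp_neg, comp_other S.dec hrl heW.1, neg_zero]) hr
    (Or.inr (Or.inl ⟨⟨l, (D l).neg_mem heW.1⟩, hk⟩))
  rw [hh.2.2, hec, hvb]
  module

/-- Enlarge a support of two blocks. -/
theorem Setup.grow (hk : k ≤ 3) {b : V} (hb : RelBlock M D b) (hoff : OffBlock D b) :
    ∃ b', RelBlock M D b' ∧ 3 ≤ (supp S b').card := by
  classical
  by_cases h3 : 3 ≤ (supp S b).card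
  · exact ⟨b, hb, h3⟩
  obtain ⟨y, i, hy, hrel⟩ := id hb
  obtain ⟨l, hl⟩ := exists_ns_comp S.dec S.nondeg hrel.1
  obtain ⟨m, hml, hm⟩ := exists_comp_ne S.dec S.nondeg (hoff l)
  set c := comp S.dec l b
  have hc : c ∈ D l := comp_mem S.dec l b
  have hlS : l ∈ supp S b := S.mem_supp.2 (fun h => hl (by show Q (comp S.dec l b) = 0; rw [h, QuadraticMap.map_zero]))
  have hmS : m ∈ supp S b := S.mem_supp.2 hm
  have hout : ∀ p, p ≠ l → p ≠ m → comp S.dec p b = 0 := fun p h1 h2 => by
    by_contra hp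
    have := Finset.card_le_card (show ({l, m, p} : Finset (Fin t)) ⊆ supp S b by
      simp [Finset.insert_subset_iff, hlS, hmS, S.mem_supp.2 hp])
    rw [Finset.card_eq_three.2 ⟨l, m, p, Ne.symm hml, Ne.symm h1, Ne.symm h2, rfl⟩] at this
    exact h3 this
  have ht := Setup.blocks_three (S := S) hk
  obtain ⟨n, -, hnl, hnm⟩ := S.spare ∅ (by simp; omega) l m
  obtain ⟨p, hpn, hpl, hpm⟩ := S.spare {n} (by simp; omega) l m
  rw [Finset.mem_singleton] at hpn
  obtain ⟨u, hu, huc, hQu, hu2, hun⟩ : ∃ u ∈ D l, polar Q u c = 1 ∧ Q u ≠ 0 ∧ 2 * Q c * Q u ≠ 1 ∧ u ∉ F ∙ c := by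
    rcases (show k = 2 ∨ k = 3 by have := S.two_le; omega) with h | h
    · exact S.exists_u_two h hc hl
    · refine S.exists_u_three h hc hl (Submodule.mem_span_singleton_self c) fun hle => ?_
      have h1 := Submodule.finrank_mono hle
      rw [S.dec.dim, finrank_span_singleton (fun h0 => hl (by show Q c = 0; rw [h0, QuadraticMap.map_zero]))] at h1
      omega
  obtain ⟨g₀, hg₀, hmap, hfix, hg₀H⟩ := S.exists_swap (Ne.symm hnm) hpm hpn (le_refl (D p)) (S.values_block p)
  obtain ⟨s, hsΩ, hsfix, hsv⟩ := S.corr (le_refl (D p)) (S.values_block p) (refl Q u)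
  have hfixu : refl Q u * s ∈ fixBlocks D := (fixBlocks D).mul_mem (refl_mem_fixBlocks S.dec hu) hsfix
  set h := g₀ * (refl Q u * s)
  have hhM : h ∈ M := M.mul_mem hg₀ (S.mem_of_fix hsΩ hfixu)
  have hrel' := S.relBlock_map hb hhM (hg₀H.mul_fix hfixu)
  have hubb : polar Q u b = 1 := by rw [← polar_comp S.dec hu]; exact huc
  have hpb : ∀ w ∈ D p, polar Q w b = 0 := (comp_eq_zero S.dec).1 (hout p hpl hpm)
  set cm := comp S.dec m b
  have hb2 : b = c + cm := ext_comp S.dec S.nondeg fun q => by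
    rw [comp_add]
    by_cases h1 : q = l
    · subst h1; rw [comp_self S.dec hc, comp_other S.dec (Ne.symm hml) (comp_mem S.dec m b), add_zero]
    by_cases h2 : q = m
    · subst h2; rw [comp_other S.dec h1 hc, comp_self S.dec (comp_mem S.dec q b), zero_add]
    rw [hout q h1 h2, comp_other S.dec h1 hc, comp_other S.dec h2 (comp_mem S.dec m b), add_zero]
  set f := g₀.1 cm
  have hf : f ∈ D n := hmap ▸ ⟨cm, comp_mem S.dec m b, rfl⟩
  set c' := c - (Q u)⁻¹ • u with hc'def
  have hc' : c' ∈ D l := (D l).sub_mem hc ((D l).smul_mem _ hu)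
  have hhb : h.1 b = c' + f := by
    show g₀.1 ((refl Q u).1 (s.1 b)) = _
    rw [hsv b hpb, refl_apply, hubb, mul_one]
    rw [hb2, add_sub_right_comm, map_add, hfix c' (comp_other S.dec hml hc') (comp_other S.dec hnl hc')
      fun w hw => S.dec.orth p l hpl w hw _ hc']
  set γ := (Q b)⁻¹ * polar Q b (h.1 b)
  have hγ : γ ≠ 0 := by
    refine mul_ne_zero (inv_ne_zero hrel.1) fun h0 => hu2 ?_
    rw [hhb, polar_add_right, ← polar_comp' S.dec hc' b, ← polar_comp' S.dec hf b, hout n hnl hnm, polar_zero_left,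
      add_zero] at h0
    simp only [hc'def, polar_sub_right, polar_smul_r', polar_self', polar_comm _ (comp S.dec l b) u] at h0
    rw [huc] at h0
    field_simp at h0
    rw [show comp S.dec l b = c from rfl, polar_self'] at h0
    linear_combination h0
  set b' := (refl Q b).1 (h.1 b) with hb'
  have hb'eq : b' = c' + f - γ • b := by rw [hb', refl_apply, hhb]; simp only [γ, hhb]
  have hrelb : Rel M b' b := by
    refine ⟨by rw [hb', apply_quad, apply_quad]; exact hrel.1, hrel.1, ⟨Q b, by rw [hb', apply_quad, apply_quad]⟩, ?_⟩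
    rw [hb', ← conj_refl, refl_inv, mul_assoc, refl_mul_self, mul_one]
    exact hrel'.2.2.2
  refine ⟨b', ⟨y, i, hy, hrelb.trans hrel⟩, le_trans (le_of_eq (Finset.card_eq_three.2
    ⟨l, m, n, Ne.symm hml, Ne.symm hnl, Ne.symm hnm, rfl⟩).symm) (Finset.card_le_card ?_)⟩
  simp only [Finset.insert_subset_iff, Finset.singleton_subset_iff, S.mem_supp, hb'eq, comp_sub, comp_add, comp_smul]
  refine ⟨fun h0 => hun ?_, fun h0 => hm ?_, fun h0 => ?_⟩
  · rw [comp_self S.dec hc', comp_other S.dec (Ne.symm hnl) hf, add_zero, hc'def, sub_right_comm, sub_eq_zero] at h0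
    refine (Submodule.smul_mem_iff (F ∙ c) (inv_ne_zero hQu)).1 ?_
    rw [← h0]
    exact sub_mem (Submodule.mem_span_singleton_self c) (Submodule.smul_mem _ _ (Submodule.mem_span_singleton_self c))
  · rw [comp_other S.dec hml hc', comp_other S.dec (Ne.symm hnm) hf, add_zero, zero_sub, neg_eq_zero, smul_eq_zero] at h0
    exact h0.resolve_left hγ
  · rw [comp_other S.dec hnl hc', comp_self S.dec hf, hout n hnl hnm, smul_zero, sub_zero, zero_add] at h0
    exact hm (g₀.1.map_eq_zero_iff.1 h0)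

/-- The finish from a pair inside two blocks, with a correction fixing `b`. -/
theorem Setup.finish_pair (hk : k ≤ 3) {b : V} (hb : RelBlock M D b) {l m r : Fin t} (hlm : l ≠ m) (hrl : r ≠ l)
    (hrm : r ≠ m) (hr : comp S.dec r b ≠ 0) {u v : V} (hu : u ∈ D l) (hv : v ∈ D m) (hub : polar Q u b = 1)
    (hvb : polar Q v b = 1) (hQu : Q u ≠ 0) (huv : Q u + Q v = 0) {p : Fin t} {W : Submodule F V} (hW : W ≤ D p)
    (hval : ∀ c : F, ∃ a ∈ W, Q a = c) (hWb : ∀ w ∈ W, polar Q w b = 0) : commutator (orthGroup Q) ≤ M := by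
  classical
  obtain ⟨s, hsΩ, hsfix, hsv⟩ := S.corr hW hval (refl Q u * refl Q v)
  have huv' : polar Q u v = 0 := S.dec.orth l m hlm u hu v hv
  have hQv : Q v = -Q u := by linear_combination huv
  refine S.top_of_diff hb hsΩ (inH_of_fixBlocks ((fixBlocks D).mul_mem
    ((fixBlocks D).mul_mem (refl_mem_fixBlocks S.dec hu) (refl_mem_fixBlocks S.dec hv)) hsfix))
    (d := -((Q u)⁻¹ • u + (Q v)⁻¹ • v)) ?_ (fun h0 => ?_) ?_ (r := r) ?_ hr ?_
  · show (refl Q u).1 ((refl Q v).1 (s.1 b)) = _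
    rw [hsv b hWb, refl_apply, refl_apply, hvb, polar_sub_right, polar_smul_r', huv', hub, mul_zero, sub_zero]
    simp only [mul_one]
    module
  · have h1 := congrArg (polar Q b) (neg_eq_zero.1 h0)
    have h2 := congrArg (comp S.dec l) (neg_eq_zero.1 h0)
    rw [comp_add, comp_smul, comp_smul, comp_self S.dec hu, comp_other S.dec hlm hv, smul_zero, add_zero, comp_zero,
      smul_eq_zero] at h2
    exact (h2.resolve_left (inv_ne_zero hQu) ▸ hQu) (QuadraticMap.map_zero Q)
  · rw [QuadraticMap.map_neg, quad_add', quad_smul', quad_smul', polar_smul_l', polar_smul_r', huv', hQv]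
    field_simp
    ring
  · rw [comp_neg, comp_add, comp_smul, comp_smul, comp_other S.dec hrl hu, comp_other S.dec hrm hv, smul_zero,
      smul_zero, add_zero, neg_zero]
  · have hout : ∀ q ∉ ({l, m} : Finset (Fin t)), comp S.dec q (-((Q u)⁻¹ • u + (Q v)⁻¹ • v)) = 0 := fun q hq => by
      simp only [Finset.mem_insert, Finset.mem_singleton, not_or] at hq
      rw [comp_neg, comp_add, comp_smul, comp_smul, comp_other S.dec hq.1 hu, comp_other S.dec hq.2 hv, smul_zero,
        smul_zero, add_zero, neg_zero]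
    have hcard : ({l, m} : Finset (Fin t)).card = 2 := Finset.card_pair hlm
    rcases (show k = 2 ∨ k = 3 by have := S.two_le; omega) with h | h
    · exact Or.inl ⟨{l, m}, by have := Setup.blocks_two (S := S) h; omega, hout⟩
    · refine Or.inr (Or.inr ⟨{l, m}, by have := Setup.blocks_three (S := S) h.le; omega, hout, h, l, ?_⟩)
      rw [comp_neg, comp_add, comp_smul, comp_smul, comp_self S.dec hu, comp_other S.dec hlm hv, smul_zero, add_zero,
        QuadraticMap.map_neg, quad_smul']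
      exact mul_ne_zero (mul_ne_zero (inv_ne_zero hQu) (inv_ne_zero hQu)) hQu

theorem Setup.finish_three (hk : k = 3) {b : V} (hb : RelBlock M D b) (h3 : 3 ≤ (supp S b).card) :
    commutator (orthGroup Q) ≤ M := by
  classical
  obtain ⟨r, hr⟩ := exists_ns_comp S.dec S.nondeg (hb.choose_spec.choose_spec.2.1)
  obtain ⟨l, hl, hlr⟩ := Finset.exists_mem_ne (show 1 < (supp S b).card by omega) r
  obtain ⟨m, hm, hml⟩ := Finset.exists_mem_ne
    (show 1 < ((supp S b).erase r).card by
      have := Finset.pred_card_le_card_erase (a := r) (s := supp S b)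
      omega) l
  rw [Finset.mem_erase] at hm
  obtain ⟨u, hu, huc, hQu⟩ := S.free_three hk (comp_mem S.dec l b) (S.mem_supp.1 hl) 1
  obtain ⟨v, hv, hvc, hQv⟩ := S.free_three hk (comp_mem S.dec m b) (S.mem_supp.1 hm.2) (-1)
  rw [polar_comp S.dec hu] at huc
  rw [polar_comp S.dec hv] at hvc
  obtain ⟨h2, -⟩ := S.small_three hk
  exact S.finish_pair (by omega) hb (Ne.symm hml) (Ne.symm hlr) (Ne.symm hm.1)
    (fun h => hr (by rw [h, QuadraticMap.map_zero])) hu hv huc hvc (by rw [hQu]; exact one_ne_zero)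
    (by rw [hQu, hQv, add_neg_cancel]) inf_le_left
    (S.values_perp (comp_mem S.dec r b) (Or.inr ⟨by omega, hr, h2⟩))
    fun w hw => by
      rw [← polar_comp S.dec hw.1, polar_comm]; exact hw.2 _ (Submodule.mem_span_singleton_self _)

/-- Two blocks of a given set carrying opposite norms. -/
theorem Setup.pair_in (hk : k = 2) {b : V} {T : Finset (Fin t)} (hT : 3 ≤ T.card)
    (hTb : ∀ p ∈ T, comp S.dec p b ≠ 0) : ∃ l ∈ T, ∃ m ∈ T, l ≠ m ∧ ∃ u ∈ D l, ∃ v ∈ D m,
      polar Q u b = 1 ∧ polar Q v b = 1 ∧ Q u ≠ 0 ∧ Q u + Q v = 0 := by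
  classical
  obtain ⟨p₁, p₂, p₃, h1, h2, h3, h12, h13, h23⟩ := Finset.two_lt_card_iff.1 (show 2 < T.card by omega)
  set f : Fin 3 → Fin t := ![p₁, p₂, p₃] with hf
  have hinj : Function.Injective f := by
    intro a c hac
    fin_cases a <;> fin_cases c <;> simp_all [eq_comm]
  have hfT : ∀ a, f a ∈ T := fun a => by fin_cases a <;> simp_all
  obtain ⟨r, s, hrs, u, hu, v, hv, huc, hvc, hQu, huv⟩ := S.pair_two hk hinj
    (c := fun a => comp S.dec (f a) b) (fun a => comp_mem S.dec _ b) (fun a => hTb _ (hfT a))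
  rw [polar_comp S.dec hu] at huc
  rw [polar_comp S.dec hv] at hvc
  exact ⟨f r, hfT r, f s, hfT s, fun h => hrs (hinj h), u, hu, v, hv, huc, hvc, hQu, huv⟩

theorem Setup.ab_four {u₁ v₁ u₂ v₂ : V} (h1 : Q u₁ ≠ 0) (h2 : Q u₂ ≠ 0) (e1 : Q v₁ = -Q u₁) (e2 : Q v₂ = -Q u₂) :
    refl Q u₁ * refl Q v₁ * (refl Q u₂ * refl Q v₂) ∈ commutator (orthGroup Q) := by
  have h1' : Q v₁ ≠ 0 := by rw [e1]; exact neg_ne_zero.2 h1
  have h2' : Q v₂ ≠ 0 := by rw [e2]; exact neg_ne_zero.2 h2
  have ab := fun {a c : V} (ha : Q a ≠ 0) (hc : Q c ≠ 0) (h : IsSquare (Q a * Q c)) =>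
    ab_refl_eq S.nondeg S.good ha hc h
  rw [Orth.mem_commutator_iff, map_mul, map_mul, map_mul]
  by_cases hA : IsSquare (Q u₁ * Q u₂)
  · rw [ab h1 h2 hA, ab h1' h2' (by rw [e1, e2, neg_mul_neg]; exact hA), mul_mul_mul_comm, ab_refl_sq, ab_refl_sq,
      mul_one]
  by_cases hB : IsSquare (Q u₁ * Q v₁)
  · have hC : IsSquare (Q u₂ * Q v₂) := by
      obtain ⟨a, ha⟩ := hB
      refine ⟨Q u₂ * a / Q u₁, ?_⟩
      rw [e1] at ha
      rw [e2]
      field_simp
      linear_combination ha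
    rw [ab h1 h1' hB, ab h2 h2' hC, ab_refl_sq, ab_refl_sq, mul_one]
  have hC : IsSquare (Q u₂ * Q v₁) := ((isSquare_pigeon (Q u₁) (Q u₂) (Q v₁)).resolve_left hA).resolve_left hB
  rw [ab h2 h1' hC, ab h1 h2' (by rw [e2, show Q u₁ * -Q u₂ = Q u₂ * Q v₁ by rw [e1]; ring]; exact hC),
    mul_mul_mul_comm, mul_comm (Abelianization.of (refl Q v₁)) (Abelianization.of (refl Q v₂)), mul_mul_mul_comm,
    ab_refl_sq, ab_refl_sq, mul_one]

/-- Two orthogonal non-singular vectors span a plane block. -/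
theorem Setup.plane_span (hk : k = 2) (h2 : (2 : F) ≠ 0) {i : Fin t} {u z x : V} (hu : u ∈ D i) (hz : z ∈ D i)
    (hx : x ∈ D i) (hQu : Q u ≠ 0) (hQz : Q z ≠ 0) (huz : polar Q u z = 0) : ∃ a c : F, x = a • u + c • z := by
  have hu0 : u ≠ 0 := fun h => hQu (by rw [h, QuadraticMap.map_zero])
  have hli : LinearIndependent F ![u, z] := (LinearIndependent.pair_iff' hu0).2 fun a ha => hQz (by
    rw [← ha, polar_smul_r', polar_self'] at huz
    rw [← ha, (mul_eq_zero.1 huz).resolve_right (mul_ne_zero h2 hQu), zero_smul, QuadraticMap.map_zero])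
  have hsp : Submodule.span F {u, z} = D i := Submodule.eq_of_le_of_finrank_eq
    (Submodule.span_le.2 (by simp [Set.insert_subset_iff, hu, hz])) (by
      rw [S.dec.dim, hk, show ({u, z} : Set V) = Set.range ![u, z] by simp [Matrix.range_cons, Set.pair_comm],
        finrank_span_eq_card hli]
      simp)
  obtain ⟨a, c, h⟩ := Submodule.mem_span_pair.1 (show x ∈ Submodule.span F {u, z} by rw [hsp]; exact hx)
  exact ⟨a, c, h.symm⟩

/-- Orthogonal pairs of two plane blocks have the same discriminant. -/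
theorem Setup.plane_disc (hk : k = 2) (h2 : (2 : F) ≠ 0) {i j : Fin t} {u z v w : V} (hu : u ∈ D i) (hz : z ∈ D i)
    (hv : v ∈ D j) (hw : w ∈ D j) (hQu : Q u ≠ 0) (hQz : Q z ≠ 0) (huz : polar Q u z = 0)
    (hvw : polar Q v w = 0) : IsSquare (Q u * Q z * (Q v * Q w)) := by
  obtain ⟨e, he⟩ := S.dec.isom j i
  set v' := (e ⟨v, hv⟩ : V)
  set w' := (e ⟨w, hw⟩ : V)
  have hQv : Q v' = Q v := he _
  have hQw : Q w' = Q w := he _
  have hpol : polar Q v' w' = 0 := by
    have h1 := he (⟨v, hv⟩ + ⟨w, hw⟩)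
    rw [map_add, Submodule.coe_add, Submodule.coe_add, quad_add', quad_add', hvw] at h1
    linear_combination h1 - hQv - hQw
  obtain ⟨a, c, hv'⟩ := S.plane_span hk h2 hu hz (e ⟨v, hv⟩).2 hQu hQz huz
  obtain ⟨a', c', hw'⟩ := S.plane_span hk h2 hu hz (e ⟨w, hw⟩).2 hQu hQz huz
  change v' = a • u + c • z at hv'
  change w' = a' • u + c' • z at hw'
  have huz' : polar Q z u = 0 := by rw [polar_comm]; exact huz
  simp only [hv', quad_add', quad_smul', polar_smul_l', polar_smul_r', huz] at hQv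
  simp only [hw', quad_add', quad_smul', polar_smul_l', polar_smul_r', huz] at hQw
  simp only [hv', hw', polar_add_left, polar_add_right, polar_smul_l', polar_smul_r', huz, huz', polar_self'] at hpol
  have hpol' : a * a' * Q u + c * c' * Q z = 0 :=
    (mul_eq_zero.1 (show (2 : F) * (a * a' * Q u + c * c' * Q z) = 0 by linear_combination hpol)).resolve_left h2
  refine ⟨(a * c' - c * a') * (Q u * Q z), ?_⟩
  rw [← hQv, ← hQw]
  linear_combination Q u * Q z * (a * a' * Q u + c * c' * Q z) * hpol'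

/-- The finish from a vector with a suitable orthogonal reflection in a plane block. -/
theorem Setup.finish_sign (hk : k = 2) {b : V} (hb : RelBlock M D b) (h3 : 3 ≤ (supp S b).card)
    (hneg : IsSquare (-1 : F) ∨ ∃ p, ∃ z ∈ D p, Q z ≠ 0 ∧ polar Q z b = 0 ∧ IsSquare (-(Q z * Q b))) :
    commutator (orthGroup Q) ≤ M := by
  classical
  have ht := Setup.blocks_two (S := S) hk
  obtain ⟨l, hl, m, hm, hlm, u, hu, v, hv, hub, hvb, hQu, huv⟩ := S.pair_in hk h3 fun p hp => S.mem_supp.1 hp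
  obtain ⟨r, hr⟩ := Finset.card_pos.1 (show 0 < (((supp S b).erase l).erase m).card by
    have := Finset.pred_card_le_card_erase (a := l) (s := supp S b)
    have := Finset.pred_card_le_card_erase (a := m) (s := (supp S b).erase l)
    omega)
  simp only [Finset.mem_erase] at hr
  obtain ⟨hrm, hrl, hrS⟩ := hr
  have hQv : Q v = -Q u := by linear_combination huv
  have hQv0 : Q v ≠ 0 := by rw [hQv]; exact neg_ne_zero.2 hQu
  have huv' : polar Q u v = 0 := S.dec.orth l m hlm u hu v hv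
  set h₀ := refl Q u * refl Q v with hh₀
  have hh₀b : h₀.1 b = b + -((Q u)⁻¹ • u + (Q v)⁻¹ • v) := by
    show (refl Q u).1 ((refl Q v).1 b) = _
    rw [refl_apply, refl_apply, hvb, polar_sub_right, polar_smul_r', huv', hub, mul_zero, sub_zero]
    simp only [mul_one]
    module
  have hh₀fix : h₀ ∈ fixBlocks D :=
    (fixBlocks D).mul_mem (refl_mem_fixBlocks S.dec hu) (refl_mem_fixBlocks S.dec hv)
  obtain ⟨h, hhb, hrel⟩ : ∃ h : orthGroup Q, h.1 b = h₀.1 b ∧ Rel M b (h.1 b) := by
    rcases hneg with hs | ⟨p, z, hz, hQz, hzb, hzB⟩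
    · obtain ⟨i, hi⟩ := hs
      have hΩ : h₀ ∈ commutator (orthGroup Q) :=
        refl_pair_mem S.nondeg S.good S.rank hQu hQv0 ⟨i * Q u, by rw [hQv]; linear_combination (Q u * Q u) * hi⟩
      exact ⟨h₀, rfl, S.relBlock_map hb (S.mem_of_fix hΩ hh₀fix) (inH_of_fixBlocks hh₀fix)⟩
    by_cases hs : IsSquare (-1 : F)
    · obtain ⟨i, hi⟩ := hs
      have hΩ : h₀ ∈ commutator (orthGroup Q) :=
        refl_pair_mem S.nondeg S.good S.rank hQu hQv0 ⟨i * Q u, by rw [hQv]; linear_combination (Q u * Q u) * hi⟩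
      exact ⟨h₀, rfl, S.relBlock_map hb (S.mem_of_fix hΩ hh₀fix) (inH_of_fixBlocks hh₀fix)⟩
    obtain ⟨y, i, hy, hby⟩ := hb
    obtain ⟨hQb, hQy, hsq, hbyM⟩ := id hby
    set h := h₀ * refl Q z with hh
    refine ⟨h, by show h₀.1 ((refl Q z).1 b) = _; rw [refl_fix Q hzb], hQb, by rwa [apply_quad],
      ⟨Q b, by rw [apply_quad]⟩, ?_⟩
    have hzy : IsSquare (-(Q z) * Q y) := isSquare_trans hQb (by rwa [neg_mul]) hsq
    have hk' : h * refl Q y ∈ commutator (orthGroup Q) := by
      have ab := fun {a c : V} (ha : Q a ≠ 0) (hc : Q c ≠ 0) (h : IsSquare (Q a * Q c)) =>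
        ab_refl_eq S.nondeg S.good ha hc h
      rw [Orth.mem_commutator_iff, hh, hh₀, map_mul, map_mul, map_mul]
      by_cases huz : IsSquare (Q u * Q z)
      · have hvy : IsSquare (Q v * Q y) := by
          have h1 : IsSquare (Q v * -Q z) := by rw [hQv, neg_mul_neg]; exact huz
          exact isSquare_trans (neg_ne_zero.2 hQz) h1 hzy
        rw [ab hQu hQz huz, ab hQv0 hQy hvy,
          mul_assoc (Abelianization.of (refl Q z) * Abelianization.of (refl Q y)), mul_mul_mul_comm, ab_refl_sq,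
          ab_refl_sq, mul_one]
      · have huy : IsSquare (Q u * Q y) := by
          rcases isSquare_pigeon (Q u) (Q z) (Q y) with h1 | h1 | h1
          · exact absurd h1 huz
          · exact h1
          · refine absurd ?_ hs
            obtain ⟨a, ha⟩ := h1
            obtain ⟨c, hc⟩ := hzy
            refine ⟨a * c / (Q z * Q y), ?_⟩
            field_simp
            linear_combination (Q z * Q y) * ha * (-1) + (a * a) * hc
        have hvz : IsSquare (Q v * Q z) := by
          have h1 : IsSquare (Q u * -Q z) := isSquare_trans hQy huy (by rw [mul_comm]; exact hzy)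
          rwa [hQv, neg_mul, ← mul_neg]
        rw [ab hQu hQy huy, ab hQv0 hQz hvz, mul_assoc (Abelianization.of (refl Q y)), ab_refl_sq, mul_one,
          ab_refl_sq]
    have hkfix : h * refl Q y ∈ fixBlocks D := (fixBlocks D).mul_mem ((fixBlocks D).mul_mem hh₀fix
      (refl_mem_fixBlocks S.dec hz)) (refl_mem_fixBlocks S.dec hy)
    have hn : h * refl Q b ∈ M := by
      have := M.mul_mem (S.mem_of_fix hk' hkfix) hby.symm.2.2.2
      rwa [mul_assoc, ← mul_assoc (refl Q y), refl_mul_self, one_mul] at this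
    have hconj : refl Q y * (h * refl Q y) * refl Q y ∈ M := by
      refine S.mem_of_fix ?_ ((fixBlocks D).mul_mem ((fixBlocks D).mul_mem (refl_mem_fixBlocks S.dec hy) hkfix)
        (refl_mem_fixBlocks S.dec hy))
      have := (inferInstance : (commutator (orthGroup Q)).Normal).conj_mem _ hk' (refl Q y)
      rwa [refl_inv] at this
    have hfin := M.mul_mem (M.mul_mem hbyM hconj) (M.inv_mem hn)
    rw [mul_inv_rev, refl_inv] at hfin
    rw [← conj_refl]
    convert hfin using 1
    simp only [mul_assoc]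
    rw [← mul_assoc (refl Q y) (refl Q y), refl_mul_self, one_mul, ← mul_assoc (refl Q y) (refl Q y), refl_mul_self,
      one_mul]
  refine S.top_of_rel hrel (apply_quad h b) (hhb.trans hh₀b) (fun h0 => ?_) ?_ (r := r) ?_ (S.mem_supp.1 hrS)
    (Or.inl ⟨{l, m}, ?_, fun q hq => ?_⟩)
  · have h2 := congrArg (comp S.dec l) (neg_eq_zero.1 h0)
    rw [comp_add, comp_smul, comp_smul, comp_self S.dec hu, comp_other S.dec hlm hv, smul_zero, add_zero, comp_zero,
      smul_eq_zero] at h2
    exact (h2.resolve_left (inv_ne_zero hQu) ▸ hQu) (QuadraticMap.map_zero Q)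
  · rw [QuadraticMap.map_neg, quad_add', quad_smul', quad_smul', polar_smul_l', polar_smul_r', huv', hQv]
    field_simp
    ring
  · rw [comp_neg, comp_add, comp_smul, comp_smul, comp_other S.dec hrl hu, comp_other S.dec hrm hv, smul_zero,
      smul_zero, add_zero, neg_zero]
  · rw [Finset.card_pair hlm]; omega
  · simp only [Finset.mem_insert, Finset.mem_singleton, not_or] at hq
    rw [comp_neg, comp_add, comp_smul, comp_smul, comp_other S.dec hq.1 hu, comp_other S.dec hq.2 hv, smul_zero,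
      smul_zero, add_zero, neg_zero]

theorem Setup.finish_two (hk : k = 2) {b : V} (hb : RelBlock M D b) (h3 : 3 ≤ (supp S b).card) :
    commutator (orthGroup Q) ≤ M := by
  classical
  have ht := Setup.blocks_two (S := S) hk
  obtain ⟨l, hl, m, hm, hlm, u, hu, v, hv, hub, hvb, hQu, huv⟩ := S.pair_in hk h3 fun p hp => S.mem_supp.1 hp
  set T := ((supp S b).erase l).erase m
  have hTc : (supp S b).card ≤ T.card + 2 := by
    have := Finset.pred_card_le_card_erase (a := l) (s := supp S b)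
    have := Finset.pred_card_le_card_erase (a := m) (s := (supp S b).erase l)
    change _ ≤ T.card at this
    omega
  by_cases h5 : 5 ≤ (supp S b).card
  swap
  · obtain ⟨r, hr⟩ := Finset.card_pos.1 (show 0 < T.card by omega)
    simp only [T, Finset.mem_erase] at hr
    obtain ⟨p, hp⟩ : ∃ p, p ∉ supp S b := by
      by_contra! hh
      have := Finset.card_le_card (show Finset.univ ⊆ supp S b from fun p _ => hh p)
      rw [Finset.card_univ, Fintype.card_fin] at this
      omega
    exact S.finish_pair (by omega) hb hlm hr.2.1 hr.1 (S.mem_supp.1 hr.2.2) hu hv hub hvb hQu huv (le_refl (D p))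
      (S.values_block p) ((comp_eq_zero S.dec).1 (by by_contra hne; exact hp (S.mem_supp.2 hne)))
  obtain ⟨l', hl', m', hm', hlm', u', hu', v', hv', hub', hvb', hQu', huv'⟩ := S.pair_in hk (T := T) (by omega)
    fun p hp => S.mem_supp.1 (Finset.mem_of_mem_erase (Finset.mem_of_mem_erase hp))
  simp only [T, Finset.mem_erase] at hl' hm'
  obtain ⟨r, hr⟩ := Finset.card_pos.1 (show 0 < ((T.erase l').erase m').card by
    have := Finset.pred_card_le_card_erase (a := l') (s := T)
    have := Finset.pred_card_le_card_erase (a := m') (s := T.erase l')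
    omega)
  simp only [T, Finset.mem_erase] at hr
  obtain ⟨hrm', hrl', hrm, hrl, hrS⟩ := hr
  have hQv : Q v = -Q u := by linear_combination huv
  have hQv' : Q v' = -Q u' := by linear_combination huv'
  have o : ∀ {a c : Fin t}, a ≠ c → ∀ {x z : V}, x ∈ D a → z ∈ D c → polar Q x z = 0 :=
    fun h _ _ hx hz => S.dec.orth _ _ h _ hx _ hz
  set w := (Q u)⁻¹ • u + (Q v)⁻¹ • v + ((Q u')⁻¹ • u' + (Q v')⁻¹ • v') with hw
  set h := refl Q u * refl Q v * (refl Q u' * refl Q v')
  have hhb : h.1 b = b - w := by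
    show (refl Q u).1 ((refl Q v).1 ((refl Q u').1 ((refl Q v').1 b))) = _
    simp only [hw, refl_apply, polar_sub_right, polar_smul_r', hub, hvb, hub', hvb', o hlm hu hv, o hlm' hu' hv',
      o (Ne.symm hl'.2.1) hu hu', o (Ne.symm hm'.2.1) hu hv', o (Ne.symm hl'.1) hv hu', o (Ne.symm hm'.1) hv hv',
      mul_zero, sub_zero, mul_one]
    module
  have hQw : Q w = 0 := by
    simp only [hw, quad_add', quad_smul', polar_add_left, polar_add_right, polar_smul_l',
      polar_smul_r', hQv, hQv', o hlm hu hv, o hlm' hu' hv', o (Ne.symm hl'.2.1) hu hu',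
      o (Ne.symm hm'.2.1) hu hv', o (Ne.symm hl'.1) hv hu', o (Ne.symm hm'.1) hv hv']
    field_simp
    ring
  have hwc : ∀ q, q ≠ l → q ≠ m → q ≠ l' → q ≠ m' → comp S.dec q w = 0 := fun q h1 h2 h3 h4 => by
    simp only [hw, comp_add, comp_smul, comp_other S.dec h1 hu, comp_other S.dec h2 hv, comp_other S.dec h3 hu',
      comp_other S.dec h4 hv', smul_zero, add_zero]
  have hwl : comp S.dec l w = (Q u)⁻¹ • u := by
    simp only [hw, comp_add, comp_smul, comp_self S.dec hu, comp_other S.dec hlm hv,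
      comp_other S.dec (Ne.symm hl'.2.1) hu', comp_other S.dec (Ne.symm hm'.2.1) hv', smul_zero, add_zero]
  have hwm : comp S.dec m w = (Q v)⁻¹ • v := by
    simp only [hw, comp_add, comp_smul, comp_self S.dec hv, comp_other S.dec (Ne.symm hlm) hu,
      comp_other S.dec (Ne.symm hl'.1) hu', comp_other S.dec (Ne.symm hm'.1) hv', smul_zero, add_zero, zero_add]
  have hfix : h ∈ fixBlocks D := (fixBlocks D).mul_mem
    ((fixBlocks D).mul_mem (refl_mem_fixBlocks S.dec hu) (refl_mem_fixBlocks S.dec hv))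
    ((fixBlocks D).mul_mem (refl_mem_fixBlocks S.dec hu') (refl_mem_fixBlocks S.dec hv'))
  have hbw : Rel M b (h.1 b) :=
    S.relBlock_map hb (S.mem_of_fix (S.ab_four hQu hQu' hQv hQv') hfix) (inH_of_fixBlocks hfix)
  obtain ⟨y, i, hy, hby⟩ := hb
  have hQb := hby.1
  -- a block vector of the same norm which is not orthogonal to `b`
  obtain ⟨c, hc, hQc, hbc⟩ : ∃ c ∈ D r, Q c = Q b ∧ polar Q b c ≠ 0 := by
    by_contra! hh
    refine S.mem_supp.1 hrS ((comp_eq_zero S.dec).2 fun x hx => ?_)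
    have hle : D r ≤ LinearMap.ker (QuadraticMap.polarBilin Q b) :=
      (S.class_span r hQb).trans (Submodule.span_le.2 fun v hv => hh v hv.1 hv.2)
    rw [polar_comm]
    exact hle hx
  set n := refl Q b * refl Q (h.1 b)
  have hnM : n ∈ M := hbw.2.2.2
  have hbb : Rel M (n.1 b) b := by
    refine ⟨by rwa [apply_quad], hQb, ⟨Q b, by rw [apply_quad]⟩, ?_⟩
    rw [← conj_refl]
    have e : n * refl Q b * n⁻¹ * refl Q b = n * n := by
      simp only [n, mul_inv_rev, refl_inv, mul_assoc, refl_mul_self, mul_one]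
    rw [e]
    exact M.mul_mem hnM hnM
  have hcb : Rel M c b :=
    (S.rel_block hc hy (hQc.symm ▸ hQb) hby.2.1 (by rw [hQc]; exact hby.2.2.1)).trans hby.symm
  set b' := n.1 c
  have hb' : RelBlock M D b' := ⟨y, i, hy, ((hcb.map hnM).trans hbb).trans hby⟩
  set lam := (Q b)⁻¹ * polar Q b c with hlam
  have hlam0 : lam ≠ 0 := mul_ne_zero (inv_ne_zero hQb) hbc
  have hwr : comp S.dec r w = 0 := hwc r hrl hrm hrl' hrm'
  have hb'e : b' = c + lam • w := by
    have hwc0 : polar Q w c = 0 := by rw [polar_comm]; exact (comp_eq_zero S.dec).1 hwr c hc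
    have hwb : polar Q b w = 0 := by
      have := apply_quad h b
      rw [hhb, sub_eq_add_neg, quad_add', QuadraticMap.map_neg, hQw, polar_neg_right] at this
      linear_combination -this
    show (refl Q b).1 ((refl Q (h.1 b)).1 c) = _
    rw [refl_apply, refl_apply, apply_quad, hhb]
    simp only [polar_sub_left, polar_sub_right, polar_smul_r', polar_self', hwc0, hwb, hlam, sub_zero]
    match_scalars <;> field_simp <;> ring
  have hb'l : comp S.dec l b' = (lam * (Q u)⁻¹) • u := by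
    rw [hb'e, comp_add, comp_smul, comp_other S.dec (Ne.symm hrl) hc, hwl, zero_add, smul_smul]
  have hb'm : comp S.dec m b' = (lam * (Q v)⁻¹) • v := by
    rw [hb'e, comp_add, comp_smul, comp_other S.dec (Ne.symm hrm) hc, hwm, zero_add, smul_smul]
  have hu0 : u ≠ 0 := fun e => hQu (by rw [e, QuadraticMap.map_zero])
  have hv0 : v ≠ 0 := fun e => neg_ne_zero.2 hQu (by rw [← hQv, e, QuadraticMap.map_zero])
  refine S.finish_sign hk hb' ?_ ?_
  · refine le_trans (le_of_eq (Finset.card_eq_three.2 ⟨r, l, m, hrl, hrm, hlm, rfl⟩).symm) (Finset.card_le_card ?_)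
    simp only [Finset.insert_subset_iff, Finset.singleton_subset_iff, S.mem_supp]
    refine ⟨?_, ?_, ?_⟩
    · rw [hb'e, comp_add, comp_smul, hwr, smul_zero, add_zero, comp_self S.dec hc]
      exact fun e => hQb (by rw [← hQc, e, QuadraticMap.map_zero])
    · rw [hb'l]; exact smul_ne_zero (mul_ne_zero hlam0 (inv_ne_zero hQu)) hu0
    · rw [hb'm]; exact smul_ne_zero (mul_ne_zero hlam0 (inv_ne_zero (by rw [hQv]; exact neg_ne_zero.2 hQu))) hv0
  by_cases hs : IsSquare (-1 : F)
  · exact Or.inl hs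
  have h2 : (2 : F) ≠ 0 := fun h => hs ⟨1, by linear_combination -h⟩
  obtain ⟨-, -, z, hz, hQz, -, hzu, -⟩ := S.plane_line hk hu hQu
  obtain ⟨-, -, z', hz', hQz', -, hzv, -⟩ := S.plane_line hk hv (by rw [hQv]; exact neg_ne_zero.2 hQu)
  have hdisc := S.plane_disc hk h2 hu hz hv hz' hQu hQz (by rw [polar_comm]; exact hzu)
    (by rw [polar_comm]; exact hzv)
  rcases isSquare_pigeon (-Q b) (Q z) (Q z') with h1 | h1 | h1
  · refine Or.inr ⟨l, z, hz, hQz, ?_, ?_⟩
    · rw [← polar_comp S.dec hz, hb'l, polar_smul_r', hzu, mul_zero]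
    · rw [show Q b' = Q b from (apply_quad n c).trans hQc, mul_comm (Q z), ← neg_mul]; exact h1
  · refine Or.inr ⟨m, z', hz', hQz', ?_, ?_⟩
    · rw [← polar_comp S.dec hz', hb'm, polar_smul_r', hzv, mul_zero]
    · rw [show Q b' = Q b from (apply_quad n c).trans hQc, mul_comm (Q z'), ← neg_mul]; exact h1
  · refine absurd ?_ hs
    obtain ⟨a, ha⟩ := hdisc
    obtain ⟨a', ha'⟩ := h1
    refine ⟨a / (Q u * a'), ?_⟩
    have ha'0 : a' ≠ 0 := fun e => mul_ne_zero hQz hQz' (by rw [ha', e, mul_zero])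
    rw [hQv] at ha
    field_simp
    linear_combination ha + Q u * Q u * ha'

theorem Setup.main {g : orthGroup Q} (hg : g ∈ M) (hgH : ¬ InH D g) : commutator (orthGroup Q) ≤ M := by
  rcases S.seed hg hgH with ⟨b, y, i, hy, hoff, hrel⟩ | h
  swap
  · exact h
  rcases (show k = 2 ∨ k = 3 ∨ 4 ≤ k by have := S.two_le; omega) with hk | hk | hk
  · obtain ⟨b', hb', h3⟩ := S.grow (by omega) ⟨y, i, hy, hrel⟩ hoff
    exact S.finish_two hk hb' h3
  · obtain ⟨b', hb', h3⟩ := S.grow (by omega) ⟨y, i, hy, hrel⟩ hoff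
    exact S.finish_three hk hb' h3
  · exact S.finish_large hk ⟨y, i, hy, hrel⟩ hoff

end CfsgLib.Classical.DecompOrth
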