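import Cfsg.Agent.Lib.Classical.DecompOrth.Top

/-!
# An element outside the stabiliser relates a block vector to a vector outside all blocks
-/

set_option autoImplicit false
set_option linter.unusedSectionVars false

open Module QuadraticMap CfsgLib.Orth

namespace CfsgLib.Classical.DecompOrth

variable {F V : Type*} [Field F] [AddCommGroup V] [Module F V] [FiniteDimensional F V] [Fintype F]
  {Q : QuadraticForm F V} {t k : ℕ} {D : Fin t → Submodule F V} {M : Subgroup (orthGroup Q)}

/-- Some vector outside all blocks is related to a block vector, or `M` contains `Ω`. -/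
def Seeded (M : Subgroup (orthGroup Q)) (D : Fin t → Submodule F V) : Prop :=
  (∃ b y : V, ∃ i, y ∈ D i ∧ OffBlock D b ∧ Rel M b y) ∨ commutator (orthGroup Q) ≤ M

theorem isSquare_pigeon (a b c : F) : IsSquare (a * b) ∨ IsSquare (a * c) ∨ IsSquare (b * c) := by
  classical
  by_contra! h
  obtain ⟨h1, h2, h3⟩ := h
  rw [← quadraticChar_neg_one_iff_not_isSquare, map_mul] at h1 h2 h3
  have h4 : (quadraticChar F a * quadraticChar F b) * (quadraticChar F a * quadraticChar F c) *
      (quadraticChar F b * quadraticChar F c) = -1 := by rw [h1, h2, h3]; norm_num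
  have h5 : (quadraticChar F a * quadraticChar F b * quadraticChar F c) ^ 2 = -1 := by rw [← h4]; ring
  nlinarith [sq_nonneg (quadraticChar F a * quadraticChar F b * quadraticChar F c)]

variable (S : Setup M k D)
include S

/-- The component as a linear map. -/
noncomputable def compLin (i : Fin t) : V →ₗ[F] V where
  toFun := comp S.dec i
  map_add' := comp_add S.dec i
  map_smul' := comp_smul S.dec i

theorem Setup.inv_good (i : Fin t) :
    4 ≤ Fintype.card F ∨ 3 ≤ finrank F (D i) ∨ ∀ v ∈ D i, Q v = 0 → v = 0 := by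
  rcases (show k = 2 ∨ 3 ≤ k by have := S.two_le; omega) with h | h
  · by_cases hiso : ∃ x ∈ D i, x ≠ 0 ∧ Q x = 0
    · exact Or.inl (by have := (S.small_two h).2 ⟨i, hiso⟩; omega)
    · exact Or.inr (Or.inr fun x hx hx0 => by_contra fun hne' => hiso ⟨x, hx, hne', hx0⟩)
  · exact Or.inr (Or.inl (by rw [S.dec.dim]; exact h))

theorem Setup.class_span (i : Fin t) {ν : F} (hν : ν ≠ 0) : D i ≤ Submodule.span F {v | v ∈ D i ∧ Q v = ν} := by
  set T := Submodule.span F {v | v ∈ D i ∧ Q v = ν}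
  have hinv : ∀ g : orthGroup Q, (∀ x ∈ D i, g.1 x ∈ D i) → ∀ c ∈ T, g.1 c ∈ T := fun g hg c hc => by
    have h1 : T.map (g.1 : V →ₗ[F] V) ≤ T := by
      rw [Submodule.map_span, Submodule.span_le]
      rintro _ ⟨v, ⟨hv, hQv⟩, rfl⟩
      exact Submodule.subset_span ⟨hg v hv, (apply_quad g v).trans hQv⟩
    exact h1 ⟨c, hc, rfl⟩
  refine invariant_eq S.nondeg (S.dec.nd i) (Submodule.span_le.2 fun v hv => hv.1) (fun h => ?_)
    (fun w hw _ c hc => hinv _ (fun x hx => fixBlocks_apply (refl_mem_fixBlocks S.dec hw) hx) c hc)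
    (fun e he y hy g hg c hc => hinv _ (fun x hx => fixBlocks_apply (siegel_mem_fixBlocks S.dec he hy hg) hx) c hc)
    (S.inv_good i)
  obtain ⟨a, ha, hQa⟩ := S.values_block i ν
  have : a ∈ T := Submodule.subset_span ⟨ha, hQa⟩
  rw [h, Submodule.mem_bot] at this
  rw [this, QuadraticMap.map_zero] at hQa
  exact hν hQa.symm

/-- The images of one square class escape every proper subspace. -/
theorem Setup.exists_class_out (g : orthGroup Q) {ν : F} (hν : ν ≠ 0) {K : Submodule F V} (hK : ∃ v, v ∉ K) :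
    ∃ i, ∃ y ∈ D i, Q y = ν ∧ g.1 y ∉ K := by
  by_contra! hall
  obtain ⟨v, hv⟩ := hK
  have hle : iSup D ≤ K.comap (g.1 : V →ₗ[F] V) :=
    iSup_le fun i => (S.class_span i hν).trans (Submodule.span_le.2 fun y hy => hall i y hy.1 hy.2)
  rw [S.dec.sup] at hle
  have := hle (x := g⁻¹.1 v) Submodule.mem_top
  change g.1 (g⁻¹.1 v) ∈ K at this
  rw [inv_apply] at this
  exact hv this

theorem Setup.no_split {g : orthGroup Q} (hall : ∀ i, ∀ y ∈ D i, Q y ≠ 0 → ∃ j, g.1 y ∈ D j) {i : Fin t} {x x' : V}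
    (hx : x ∈ D i) (hx' : x' ∈ D i) (hQx : Q x ≠ 0) (hQx' : Q x' ≠ 0) {j j' : Fin t} (hgx : g.1 x ∈ D j)
    (hgx' : g.1 x' ∈ D j') : j = j' := by
  classical
  by_contra hne
  have horth : ∀ {a b : V} {p q : Fin t}, g.1 a ∈ D p → g.1 b ∈ D q → p ≠ q → polar Q a b = 0 := fun ha hb h => by
    rw [← polar_isom g]; exact S.dec.orth _ _ h _ ha _ hb
  have hxx : polar Q x x' = 0 := horth hgx hgx' hne
  have hx0 : g.1 x ≠ 0 := fun h => hQx (by rw [← apply_quad g x, h, QuadraticMap.map_zero])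
  have hx'0 : g.1 x' ≠ 0 := fun h => hQx' (by rw [← apply_quad g x', h, QuadraticMap.map_zero])
  have hcomb : ∀ a : F, a ≠ 0 → Q x + a * a * Q x' = 0 := fun a ha => by
    by_contra hQ
    obtain ⟨p, hp⟩ := hall i (x + a • x') ((D i).add_mem hx ((D i).smul_mem _ hx'))
      (by rwa [quad_add', quad_smul', polar_smul_r', hxx, mul_zero, add_zero])
    rw [map_add, map_smul] at hp
    by_cases hpj : p = j
    · subst hpj
      have h1 : a • g.1 x' ∈ D p := by simpa using (D p).sub_mem hp hgx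
      exact hne (block_unique S.dec h1 ((D j').smul_mem _ hgx') (smul_ne_zero ha hx'0))
    · have h1 : comp S.dec j (g.1 x + a • g.1 x') = 0 := comp_other S.dec (Ne.symm hpj) hp
      rw [comp_add, comp_self S.dec hgx, comp_smul, comp_other S.dec hne hgx', smul_zero, add_zero] at h1
      exact hx0 h1
  have hneg : Q x = -Q x' := by linear_combination hcomb 1 one_ne_zero
  have hsq : ∀ a : F, a ≠ 0 → a = 1 ∨ a = -1 := fun a ha =>
    mul_self_eq_one_iff.1 (mul_right_cancel₀ hQx' (by linear_combination hcomb a ha - hneg))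
  have hq3 : Fintype.card F ≤ 3 := by
    have h1 := Finset.card_le_card (show (Finset.univ : Finset F) ⊆ {0, 1, -1} from fun a _ => by
      by_cases ha : a = 0
      · simp [ha]
      · rcases hsq a ha with h | h <;> simp [h])
    have h2 := Finset.card_le_three (a := (0 : F)) (b := 1) (c := -1)
    rw [Finset.card_univ] at h1
    omega
  rcases (show k = 2 ∨ k = 3 ∨ 4 ≤ k by have := S.two_le; omega) with hk | hk | hk
  · -- the sum would be a singular vector
    have hne0 : x + x' ≠ 0 := fun h => hne (block_unique S.dec hgx (show g.1 x ∈ D j' by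
      rw [eq_neg_of_add_eq_zero_left h, map_neg]; exact (D j').neg_mem hgx') hx0)
    have := (S.small_two hk).2 ⟨i, x + x', (D i).add_mem hx hx', hne0, by rw [quad_add', hxx, hneg]; ring⟩
    omega
  · have := (S.small_three hk).2
    omega
  -- a non-singular vector meeting both
  have hv : ∀ v ∈ D i, polar Q x v ≠ 0 → polar Q x' v ≠ 0 → Q v = 0 := by
    intro v hv h1 h2
    by_contra hQv
    obtain ⟨p, hp⟩ := hall i v hv hQv
    by_cases hpj : j = p
    · exact h2 (horth hgx' hp (hpj ▸ Ne.symm hne))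
    · exact h1 (horth hgx hp hpj)
  have hdual : ∀ {a b : V}, a ∈ D i → b ∈ D i → Q a ≠ 0 → b ∉ F ∙ a →
      ∃ v ∈ D i, polar Q a v = 0 ∧ polar Q b v = 1 := by
    intro a b ha hb hQa hba
    obtain ⟨z, hz1, hz2⟩ := exists_polar_one S.nondeg hba
    refine ⟨comp S.dec i z, comp_mem S.dec i z, ?_, ?_⟩
    · rw [polar_comp S.dec ha, polar_comm]; exact hz1 a (Submodule.mem_span_singleton_self a)
    · rw [polar_comp S.dec hb, polar_comm]; exact hz2
  have hindep : ∀ {a b : V} {p q : Fin t}, g.1 a ∈ D p → g.1 b ∈ D q → p ≠ q → g.1 a ≠ 0 → b ≠ 0 → b ∉ F ∙ a := by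
    intro a b p q ha hb h ha0 hb0 hmem
    obtain ⟨s, rfl⟩ := Submodule.mem_span_singleton.1 hmem
    rw [map_smul] at hb
    exact h (block_unique S.dec ((D p).smul_mem s ha) hb (by
      rw [← map_smul]; exact fun h' => hb0 (g.1.map_eq_zero_iff.1 h')))
  obtain ⟨v₁, hv₁, h11, h12⟩ := hdual hx hx' hQx
    (hindep hgx hgx' hne hx0 (fun h => hQx' (by rw [h, QuadraticMap.map_zero])))
  obtain ⟨v₂, hv₂, h21, h22⟩ := hdual hx' hx hQx'
    (hindep hgx' hgx (Ne.symm hne) hx'0 (fun h => hQx (by rw [h, QuadraticMap.map_zero])))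
  set v₀ := v₁ + v₂
  have h01 : polar Q x v₀ = 1 := by simp only [v₀, polar_add_right, h11, h22]; ring
  have h02 : polar Q x' v₀ = 1 := by simp only [v₀, polar_add_right, h12, h21]; ring
  set W := D i ⊓ qperp Q (Submodule.span F {x, x'})
  have hWp : ∀ w ∈ W, polar Q x w = 0 ∧ polar Q x' w = 0 := fun w hw =>
    ⟨hw.2 x (Submodule.subset_span (by simp)), hw.2 x' (Submodule.subset_span (by simp))⟩
  have hsingW : ∀ w ∈ W, Q (v₀ + w) = 0 := fun w hw => hv _ ((D i).add_mem ((D i).add_mem hv₁ hv₂) hw.1)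
    (by rw [polar_add_right, h01, (hWp w hw).1, add_zero]; exact one_ne_zero)
    (by rw [polar_add_right, h02, (hWp w hw).2, add_zero]; exact one_ne_zero)
  have hQv₀ : Q v₀ = 0 := by simpa using hsingW 0 W.zero_mem
  have hpW : ∀ a ∈ W, ∀ b ∈ W, polar Q a b = 0 := fun a ha b hb => by
    have h1 := hsingW _ (W.add_mem ha hb)
    have h2 := hsingW _ ha
    have h3 := hsingW _ hb
    simp only [quad_add', polar_add_right] at h1 h2 h3
    linear_combination h1 - h2 - h3 + hQv₀
  have hspanW : ∀ w ∈ W, w = polar Q w v₂ • x + polar Q w v₁ • x' := by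
    intro w hw
    refine sub_eq_zero.1 (ndSub_eq_zero (S.dec.nd i)
      ((D i).sub_mem hw.1 ((D i).add_mem ((D i).smul_mem _ hx) ((D i).smul_mem _ hx'))) fun y hy => ?_)
    show polar Q y _ = 0
    have hy' : y - polar Q x y • v₂ - polar Q x' y • v₁ ∈ W := by
      refine ⟨(D i).sub_mem ((D i).sub_mem hy ((D i).smul_mem _ hv₂)) ((D i).smul_mem _ hv₁), fun z hz => ?_⟩
      obtain ⟨a, b, rfl⟩ := Submodule.mem_span_pair.1 hz
      show polar Q (a • x + b • x') _ = 0
      simp only [polar_add_left, polar_smul_l', polar_sub_right, polar_smul_r', h11, h12, h21, h22]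
      ring
    have h1 := hpW _ hy' w hw
    simp only [polar_sub_left, polar_smul_l'] at h1
    simp only [polar_sub_right, polar_add_right, polar_smul_r', polar_comm _ y x, polar_comm _ y x',
      polar_comm _ w v₁, polar_comm _ w v₂]
    linear_combination h1
  have hWdim : k ≤ finrank F W + 2 := by
    have h1 := Submodule.finrank_sup_add_finrank_inf_eq (D i) (qperp Q (Submodule.span F {x, x'}))
    have h2 := (D i ⊔ qperp Q (Submodule.span F {x, x'})).finrank_le
    have h3 := finrank_qperp S.nondeg (Submodule.span F {x, x'})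
    have h5 := finrank_span_finset_le_card (R := F) ({x, x'} : Finset V)
    have h6 := Finset.card_le_two (a := x) (b := x')
    rw [Finset.coe_pair, Set.finrank] at h5
    rw [S.dec.dim] at h1
    change _ + finrank F W = _ at h1
    omega
  by_cases h2 : (2 : F) = 0
  swap
  · have hbot : W = ⊥ := (Submodule.eq_bot_iff _).2 fun w hw => by
      have e := hspanW w hw
      obtain ⟨ha, hb⟩ := hWp w hw
      rw [e, polar_add_right, polar_smul_r', polar_smul_r', polar_self', hxx, mul_zero, add_zero] at ha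
      rw [e, polar_add_right, polar_smul_r', polar_smul_r', polar_self', polar_comm _ x' x, hxx, mul_zero,
        zero_add] at hb
      rw [e, (mul_eq_zero.1 ha).resolve_right (mul_ne_zero h2 hQx),
        (mul_eq_zero.1 hb).resolve_right (mul_ne_zero h2 hQx'), zero_smul, zero_smul, add_zero]
    rw [hbot, finrank_bot] at hWdim
    omega
  have hq2 : Fintype.card F = 2 := by
    have h1 := Finset.card_le_card (show (Finset.univ : Finset F) ⊆ {0, 1} from fun a _ => by
      by_cases ha : a = 0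
      · simp [ha]
      · rcases hsq a ha with h | h
        · simp [h]
        · rw [show a = 1 by linear_combination h - h2]; simp)
    have h3 := Finset.card_le_two (a := (0 : F)) (b := 1)
    rw [Finset.card_univ] at h1
    have := Fintype.one_lt_card (α := F)
    omega
  have hWle : finrank F W ≤ 2 := by
    have h1 := Submodule.finrank_mono (show W ≤ Submodule.span F {x, x'} from fun w hw => by
      rw [hspanW w hw]; exact Submodule.mem_span_pair.2 ⟨_, _, rfl⟩)
    have h5 := finrank_span_finset_le_card (R := F) ({x, x'} : Finset V)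
    have h6 := Finset.card_le_two (a := x) (b := x')
    rw [Finset.coe_pair, Set.finrank] at h5
    omega
  have hle := S.small_four (by omega) hq2 i (Submodule.span F {v₀, x + x'}) (Submodule.span_le.2 (by
    simp [Set.insert_subset_iff, (D i).add_mem hx hx', show v₀ ∈ D i from (D i).add_mem hv₁ hv₂])) (fun z hz => by
    obtain ⟨a, b, rfl⟩ := Submodule.mem_span_pair.1 hz
    simp only [quad_add', quad_smul', polar_smul_l', polar_smul_r', polar_add_right, hQv₀, hneg, hxx,
      polar_comm _ v₀ x, polar_comm _ v₀ x', h01, h02]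
    linear_combination a * b * h2)
  have hli : LinearIndependent F ![v₀, x + x'] := by
    refine LinearIndependent.pair_iff.2 fun a b hab => ?_
    have h1 := congrArg (fun z => polar Q x z) hab
    simp only [polar_add_right, polar_smul_r', h01, polar_self', hxx, h2, zero_mul, add_zero, mul_zero, mul_one,
      polar_zero_right] at h1
    refine ⟨h1, ?_⟩
    rw [h1, zero_smul, zero_add, smul_eq_zero] at hab
    refine hab.resolve_right fun h0 => ?_
    exact hne (block_unique S.dec hgx (show g.1 x ∈ D j' by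
      rw [eq_neg_of_add_eq_zero_left h0, map_neg]; exact (D j').neg_mem hgx') hx0)
  rw [show ({v₀, x + x'} : Set V) = Set.range ![v₀, x + x'] by simp [Matrix.range_cons, Set.pair_comm],
    finrank_span_eq_card hli] at hle
  simp at hle

/-- If no non-singular block vector leaves the blocks, the blocks are permuted. -/
theorem Setup.exists_off {g : orthGroup Q} (hg : ¬ InH D g) :
    ∃ i, ∃ y ∈ D i, Q y ≠ 0 ∧ OffBlock D (g.1 y) := by
  classical
  by_contra! hall
  have hall' : ∀ i, ∀ y ∈ D i, Q y ≠ 0 → ∃ j, g.1 y ∈ D j := fun i y hy hQy => by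
    have := hall i y hy hQy
    simp only [OffBlock, not_forall, not_not] at this
    exact this
  choose y hy hy1 using fun i => S.values_block i 1
  have hy0 : ∀ i, Q (y i) ≠ 0 := fun i => by rw [hy1]; exact one_ne_zero
  choose τ hτ using fun i => hall' i (y i) (hy i) (hy0 i)
  have hmap : ∀ i, (D i).map (g.1 : V →ₗ[F] V) = D (τ i) := fun i => by
    refine Submodule.eq_of_le_of_finrank_eq ?_ (by rw [LinearEquiv.finrank_map_eq, S.dec.dim, S.dec.dim])
    refine Submodule.map_le_iff_le_comap.2 ((S.class_span i one_ne_zero).trans (Submodule.span_le.2 ?_))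
    rintro v ⟨hv, hv1⟩
    obtain ⟨j, hj⟩ := hall' i v hv (by rw [hv1]; exact one_ne_zero)
    exact (S.no_split hall' (hy i) hv (hy0 i) (by rw [hv1]; exact one_ne_zero) (hτ i) hj) ▸ hj
  have hinj : Function.Injective τ := fun a b h => by
    have e : D a = D b := Submodule.map_injective_of_injective g.1.injective (by rw [hmap, hmap, h])
    exact block_unique S.dec (hy a) (e ▸ hy a) fun h0 => hy0 a (by rw [h0, QuadraticMap.map_zero])
  exact hg ⟨Equiv.ofBijective τ (Finite.injective_iff_bijective.1 hinj), hmap⟩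

/-- A non-singular block vector sent into a block by an element moving its block: dimensions two and three. -/
theorem Setup.fixed_case (hk : k ≤ 3) {m : orthGroup Q} (hm : m ∈ M) {l j : Fin t} {z x : V} (hz : z ∈ D l)
    (hQz : Q z ≠ 0) (hmz : m.1 z ∈ D j) (hx : x ∈ D l) (hmx : m.1 x ∉ D j) : Seeded M D := by
  set K := D l ⊓ (D j).comap (m.1 : V →ₗ[F] V)
  have hzK : z ∈ K := ⟨hz, hmz⟩
  have hK : ¬ D l ≤ K := fun h => hmx (h hx).2
  have hz0 : z ≠ 0 := fun h => hQz (by rw [h, QuadraticMap.map_zero])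
  obtain ⟨u, hu, huz, hQu, hu2, huK⟩ : ∃ u ∈ D l, polar Q u z = 1 ∧ Q u ≠ 0 ∧ 2 * Q z * Q u ≠ 1 ∧ u ∉ K := by
    rcases (show k = 2 ∨ k = 3 by have := S.two_le; omega) with h | h
    · obtain ⟨u, hu, huz, hQu, hu2, hun⟩ := S.exists_u_two h hz hQz
      refine ⟨u, hu, huz, hQu, hu2, fun huK => hK ?_⟩
      have hli : LinearIndependent F ![z, u] := (LinearIndependent.pair_iff' hz0).2 fun a ha =>
        hun (Submodule.mem_span_singleton.2 ⟨a, ha⟩)
      have hsp : Submodule.span F {z, u} = D l := Submodule.eq_of_le_of_finrank_eq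
        (Submodule.span_le.2 (by simp [Set.insert_subset_iff, hz, hu])) (by
          rw [S.dec.dim, h, show ({z, u} : Set V) = Set.range ![z, u] by simp [Matrix.range_cons, Set.pair_comm],
            finrank_span_eq_card hli]
          simp)
      rw [← hsp]
      exact Submodule.span_le.2 (by simp [Set.insert_subset_iff, hzK, huK])
    · exact S.exists_u_three h hz hQz hzK hK
  set z' := z - (Q u)⁻¹ • u with hz'def
  have hz' : z' ∈ D l := (D l).sub_mem hz ((D l).smul_mem _ hu)
  have hQz' : Q z' = Q z := by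
    have h := apply_quad (refl Q u) z
    rwa [refl_apply, huz, mul_one] at h
  refine Or.inl ⟨m.1 z', m.1 z, j, hmz, fun p hp => ?_,
    (S.rel_block hz' hz (hQz'.symm ▸ hQz) hQz ⟨Q z, by rw [hQz']⟩).map hm⟩
  by_cases hpj : p = j
  · subst hpj
    have h1 := (D p).sub_mem hmz hp
    rw [← map_sub, hz'def, sub_sub_cancel, map_smul] at h1
    exact huK ⟨hu, ((D p).smul_mem_iff (inv_ne_zero hQu)).1 h1⟩
  · have h1 := S.dec.orth p j hpj _ hp _ hmz
    rw [polar_isom, hz'def, polar_sub_left, polar_smul_l', polar_self', huz] at h1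
    field_simp at h1
    exact hu2 (by linear_combination h1)

omit S in
theorem refl_pair_fix {a b x : V} (ha : polar Q a x = 0) (hb : polar Q b x = 0) :
    (refl Q a * refl Q b).1 x = x := by
  show (refl Q a).1 ((refl Q b).1 x) = x
  rw [refl_fix Q hb, refl_fix Q ha]

omit S in
theorem refl_pair_sub {a b : V} (hQa : Q a ≠ 0) (hQb : Q b ≠ 0) (x : V) :
    ∃ α β : F, (refl Q a * refl Q b).1 x = x + α • a + β • b ∧
      (polar Q a x ≠ 0 ∨ polar Q b x ≠ 0 → α ≠ 0 ∨ β ≠ 0) := by
  refine ⟨-((Q a)⁻¹ * (polar Q a x - (Q b)⁻¹ * polar Q b x * polar Q a b)), -((Q b)⁻¹ * polar Q b x), ?_, fun h => ?_⟩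
  · show (refl Q a).1 ((refl Q b).1 x) = _
    simp only [refl_apply, polar_sub_right, polar_smul_r']
    module
  · by_cases hb : polar Q b x = 0
    · left
      rw [hb, mul_zero, zero_mul, sub_zero]
      exact neg_ne_zero.2 (mul_ne_zero (inv_ne_zero hQa) (h.resolve_right (fun h' => h' hb)))
    · exact Or.inr (neg_ne_zero.2 (mul_ne_zero (inv_ne_zero hQb) hb))

/-- An anisotropic plane inside a four-dimensional block supplies the vector to be moved. -/
theorem Setup.aniso_witness {l : Fin t} (hk4 : 4 ≤ k) {P : Submodule F V} (hPl : P ≤ D l)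
    (hPdim : k ≤ finrank F P + 2) (hsing : ∀ r ∈ P, r ≠ 0 → Q r ≠ 0) :
    ∃ x ∈ D l, Q x ≠ 0 ∧ x ∉ P ∧ (∃ p ∈ P, polar Q x p ≠ 0) ∧ ∃ z ∈ P, Q z = Q x := by
  classical
  have hP2 : finrank F P ≤ 2 := by
    by_contra! h3
    obtain ⟨v, hv, hv0, hQv⟩ := exists_sing_sub (Q := Q) (W := P) h3
    exact hsing v hv hv0 hQv
  have hk' : k = 4 := by omega
  have hPnd : NdSub Q P := by
    refine ndSub_of_on fun w hw hw0 => ?_
    by_contra! hh
    have hQw := hsing w hw hw0
    have h2 : (2 : F) = 0 := by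
      have := hh w hw
      rw [polar_self', mul_eq_zero] at this
      exact this.resolve_right hQw
    haveI : CharP F 2 := CharTwo.of_one_ne_zero_of_two_eq_zero one_ne_zero h2
    obtain ⟨v, hv, hvw⟩ : ∃ v ∈ P, v ∉ F ∙ w := by
      by_contra! h'
      have := Submodule.finrank_mono (show P ≤ F ∙ w from h')
      rw [finrank_span_singleton hw0] at this
      omega
    obtain ⟨s, hs⟩ := FiniteField.isSquare_of_char_two (ringChar.eq F 2) (Q v / Q w)
    refine hsing (v + s • w) (P.add_mem hv (P.smul_mem _ hw)) (fun h0 => hvw ?_) ?_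
    · rw [eq_neg_of_add_eq_zero_left h0]
      exact neg_mem (Submodule.smul_mem _ _ (Submodule.mem_span_singleton_self w))
    · rw [quad_add', quad_smul', polar_smul_r', polar_comm _ v w, hh v hv, ← hs, div_mul_cancel₀ _ hQw]
      linear_combination Q v * h2
  have hval : ∀ c : F, ∃ p ∈ P, Q p = c := fun c => by
    refine exists_value (Q := Q) P ?_ c
    have hR : P ⊓ LinearMap.BilinForm.orthogonal (QuadraticMap.polarBilin Q) P = ⊥ :=
      (Submodule.eq_bot_iff _).2 fun x hx => ndSub_eq_zero hPnd hx.1 hx.2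
    rw [hR, finrank_bot]
    omega
  set L := D l ⊓ qperp Q P with hLdef
  have hL : 2 ≤ finrank F L := by
    have h1 := Submodule.finrank_sup_add_finrank_inf_eq (D l) (qperp Q P)
    have h2 := (D l ⊔ qperp Q P).finrank_le
    have h3 := finrank_qperp S.nondeg P
    rw [S.dec.dim] at h1
    rw [← hLdef] at h1
    omega
  suffices h : ∃ κ ∈ P, ∃ v ∈ L, κ ≠ 0 ∧ v ≠ 0 ∧ Q κ + Q v ≠ 0 by
    obtain ⟨κ, hκ, v, hv, hκ0, hv0, hQ⟩ := h
    have hx : κ + v ∈ D l := (D l).add_mem (hPl hκ) hv.1
    refine ⟨κ + v, hx, by rwa [quad_add', polar_qperp hκ hv.2, add_zero], fun hxP => hv0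
      (ndSub_eq_zero hPnd ((P.add_mem_iff_right hκ).1 hxP) hv.2), ?_, hval _⟩
    by_contra! hh
    refine hκ0 (ndSub_eq_zero hPnd hκ fun p hp => ?_)
    have := hh p hp
    rw [polar_add_left, polar_qperp' hp hv.2, add_zero, polar_comm] at this
    exact this
  by_cases hq : Fintype.card F = 2
  swap
  · obtain ⟨v, hv, hv0⟩ := Submodule.exists_mem_ne_zero_of_ne_bot (p := L) (fun h => by
      rw [h, finrank_bot] at hL; omega)
    obtain ⟨ν, hν⟩ : ∃ ν : F, ν ∉ ({0, -Q v} : Finset F) := by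
      by_contra! hh
      have h6 := Finset.card_le_card (show Finset.univ ⊆ ({0, -Q v} : Finset F) from fun x _ => hh x)
      have h7 := Finset.card_le_two (a := (0 : F)) (b := -Q v)
      rw [Finset.card_univ] at h6
      have := Fintype.one_lt_card (α := F)
      omega
    simp only [Finset.mem_insert, Finset.mem_singleton, not_or] at hν
    obtain ⟨κ, hκ, hQκ⟩ := hval ν
    exact ⟨κ, hκ, v, hv, fun h => hν.1 (by rw [← hQκ, h, QuadraticMap.map_zero]), hv0,
      fun h => hν.2 (by linear_combination h - hQκ)⟩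
  -- over two elements the complement of `P` is isotropic
  by_contra! hh
  have hF : ∀ c : F, c ≠ 0 → c = 1 := fun c hc => by
    by_contra h1
    have := Finset.card_le_card (show ({0, 1, c} : Finset F) ⊆ Finset.univ from Finset.subset_univ _)
    rw [Finset.card_univ, Finset.card_eq_three.2 ⟨0, 1, c, zero_ne_one, Ne.symm hc, Ne.symm h1, rfl⟩] at this
    omega
  have hone : ∀ p ∈ P, p ≠ 0 → Q p = 1 := fun p hp hp0 => hF _ (hsing p hp hp0)
  have hLone : ∀ v ∈ L, v ≠ 0 → Q v = 1 := fun v hv hv0 => by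
    obtain ⟨κ, hκ, hQκ⟩ := hval 1
    have hκ0 : κ ≠ 0 := fun h => by rw [h, QuadraticMap.map_zero] at hQκ; exact zero_ne_one hQκ
    have := hh κ hκ v hv hκ0 hv0
    rw [hQκ] at this
    refine hF _ fun h => ?_
    rw [h, add_zero] at this
    exact one_ne_zero this
  let bP := Module.finBasisOfFinrankEq F P (show finrank F P = 2 by omega)
  obtain ⟨v₁, hv₁, hv₁0⟩ := Submodule.exists_mem_ne_zero_of_ne_bot (p := L) (fun h => by
    rw [h, finrank_bot] at hL; omega)
  obtain ⟨v₂, hv₂, hv₂n⟩ : ∃ v ∈ L, v ∉ F ∙ v₁ := by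
    by_contra! h'
    have := Submodule.finrank_mono (show L ≤ F ∙ v₁ from h')
    rw [finrank_span_singleton hv₁0] at this
    omega
  set κ₁ : V := (bP 0 : V)
  set κ₂ : V := (bP 1 : V)
  have hP12 : ∀ s u : F, s • κ₁ + u • κ₂ = 0 → s = 0 ∧ u = 0 := by
    intro s u h
    have h1 : s • bP 0 + u • bP 1 = 0 := Subtype.ext h
    have hl := Fintype.linearIndependent_iff.1 bP.linearIndependent ![s, u] (by simpa [Fin.sum_univ_two] using h1)
    exact ⟨hl 0, hl 1⟩
  have hz : ∀ s u : F, Q (s • (κ₁ + v₁) + u • (κ₂ + v₂)) = 0 := by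
    intro s u
    rw [show s • (κ₁ + v₁) + u • (κ₂ + v₂) = (s • κ₁ + u • κ₂) + (s • v₁ + u • v₂) by module]
    have hp : s • κ₁ + u • κ₂ ∈ P := P.add_mem (P.smul_mem _ (bP 0).2) (P.smul_mem _ (bP 1).2)
    have hv : s • v₁ + u • v₂ ∈ L := L.add_mem (L.smul_mem _ hv₁) (L.smul_mem _ hv₂)
    rw [quad_add', polar_qperp hp hv.2, add_zero]
    by_cases h0 : s = 0 ∧ u = 0
    · rw [h0.1, h0.2]; simp
    rw [hone _ hp (fun h => h0 (hP12 s u h)), hLone _ hv (fun h => h0 ?_)]
    · have h2 : (2 : F) = 0 := by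
        by_contra h2
        have := hF 2 h2
        exact one_ne_zero (show (1 : F) = 0 by linear_combination this)
      linear_combination h2
    · have hu : u = 0 := by
        by_contra hu
        refine hv₂n ((Submodule.smul_mem_iff _ hu).1 ?_)
        rw [eq_neg_of_add_eq_zero_right h]
        exact neg_mem (Submodule.smul_mem _ _ (Submodule.mem_span_singleton_self v₁))
      rw [hu, zero_smul, add_zero, smul_eq_zero] at h
      exact ⟨h.resolve_right hv₁0, hu⟩
  have hle := S.small_four hk' hq l (Submodule.span F {κ₁ + v₁, κ₂ + v₂}) (Submodule.span_le.2 (by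
    simp [Set.insert_subset_iff, (D l).add_mem (hPl (bP 0).2) hv₁.1, (D l).add_mem (hPl (bP 1).2) hv₂.1, κ₁, κ₂]))
    (fun z hz' => by
      obtain ⟨s, u, rfl⟩ := Submodule.mem_span_pair.1 hz'
      exact hz s u)
  have hli : LinearIndependent F ![κ₁ + v₁, κ₂ + v₂] := by
    refine LinearIndependent.pair_iff.2 fun s u h => hP12 s u (ndSub_eq_zero hPnd
      (P.add_mem (P.smul_mem _ (bP 0).2) (P.smul_mem _ (bP 1).2)) ?_)
    rw [show s • κ₁ + u • κ₂ = -(s • v₁ + u • v₂) from eq_neg_of_add_eq_zero_left (by rw [← h]; module)]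
    exact neg_mem (add_mem (Submodule.smul_mem _ _ hv₁.2) (Submodule.smul_mem _ _ hv₂.2))
  rw [show ({κ₁ + v₁, κ₂ + v₂} : Set V) = Set.range ![κ₁ + v₁, κ₂ + v₂] by
    simp [Matrix.range_cons, Set.pair_comm], finrank_span_eq_card hli] at hle
  simp at hle

/-- Blocks of dimension at least three. -/
theorem Setup.seed_large (hk : 3 ≤ k) {g : orthGroup Q} (hg : g ∈ M) (hgH : ¬ InH D g) : Seeded M D := by
  classical
  obtain ⟨i, y, hy, hQy, hoff⟩ := S.exists_off hgH
  set a := g.1 y
  have hQa : Q a ≠ 0 := by simp only [a, apply_quad]; exact hQy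
  obtain ⟨j, hj⟩ := exists_ns_comp S.dec S.nondeg hQa
  have hj0 : comp S.dec j a ≠ 0 := fun h => hj (by rw [h, QuadraticMap.map_zero])
  obtain ⟨l, hlj, hl⟩ := exists_comp_ne S.dec S.nondeg (hoff j)
  obtain ⟨i', y', hy', hQy', hout⟩ := S.exists_class_out g hQy
    (K := (F ∙ comp S.dec j a).comap (compLin S j)) (by
      by_contra! hh
      have h1 := Submodule.finrank_mono (show D j ≤ F ∙ comp S.dec j a from fun v hv => by
        have h : comp S.dec j v ∈ F ∙ comp S.dec j a := hh v
        rwa [comp_self S.dec hv] at h)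
      rw [S.dec.dim, finrank_span_singleton hj0] at h1
      omega)
  set b := g.1 y'
  have hbj : comp S.dec j b ∉ F ∙ comp S.dec j a := hout
  have hQb : Q b ≠ 0 := by simp only [b, apply_quad, hQy']; exact hQy
  have hrel : Rel M a b := (S.rel_block hy hy' hQy (hQy'.symm ▸ hQy) ⟨Q y, by rw [hQy']⟩).map hg
  set m := refl Q a * refl Q b
  have hm : m ∈ M := hrel.2.2.2
  have hmoved : ∀ x ∈ D l, polar Q a x ≠ 0 ∨ polar Q b x ≠ 0 → m.1 x ∉ D l := by
    intro x hx hne hmem
    obtain ⟨α, β, e, hab⟩ := refl_pair_sub hQa hQb x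
    rw [e, add_assoc] at hmem
    have h1 : comp S.dec j (α • a + β • b) = 0 :=
      comp_other S.dec (Ne.symm hlj) (((D l).add_mem_iff_right hx).1 hmem)
    rw [comp_add, comp_smul, comp_smul] at h1
    by_cases hβ : β = 0
    · rw [hβ, zero_smul, add_zero, smul_eq_zero] at h1
      exact ((hab hne).resolve_right (fun h => h hβ)) (h1.resolve_right hj0)
    · refine hbj ((Submodule.smul_mem_iff _ hβ).1 ?_)
      rw [eq_neg_of_add_eq_zero_right h1]
      exact neg_mem (Submodule.smul_mem _ _ (Submodule.mem_span_singleton_self _))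
  set P := D l ⊓ qperp Q (Submodule.span F {a, b})
  have hPmem : ∀ x, x ∈ P ↔ x ∈ D l ∧ polar Q a x = 0 ∧ polar Q b x = 0 := fun x =>
    ⟨fun h => ⟨h.1, h.2 a (Submodule.subset_span (by simp)), h.2 b (Submodule.subset_span (by simp))⟩,
      fun h => ⟨h.1, fun z hz => by
        obtain ⟨p, q, rfl⟩ := Submodule.mem_span_pair.1 hz
        show polar Q (p • a + q • b) x = 0
        rw [polar_add_left, polar_smul_l', polar_smul_l', h.2.1, h.2.2]; ring⟩⟩
  have hfix : ∀ x ∈ P, m.1 x = x := fun x hx => refl_pair_fix ((hPmem x).1 hx).2.1 ((hPmem x).1 hx).2.2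
  have hPdim : k ≤ finrank F P + 2 := by
    have h1 := Submodule.finrank_sup_add_finrank_inf_eq (D l) (qperp Q (Submodule.span F {a, b}))
    have h2 := (D l ⊔ qperp Q (Submodule.span F {a, b})).finrank_le
    have h3 := finrank_qperp S.nondeg (Submodule.span F {a, b})
    have h5 := finrank_span_finset_le_card (R := F) ({a, b} : Finset V)
    have h6 := Finset.card_le_two (a := a) (b := b)
    rw [Finset.coe_pair, Set.finrank] at h5
    rw [S.dec.dim] at h1
    change _ + finrank F P = _ at h1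
    omega
  by_cases hcase : ∃ r ∈ P, r ≠ 0 ∧ Q r = 0 ∧ ∃ x ∈ D l, polar Q r x = 0 ∧ x ∉ P
  · obtain ⟨r, hr, hr0, hQr, x, hx, hrx, hxP⟩ := hcase
    refine Or.inr (S.top_of_fixed hm hr.1 hr0 hQr (hfix r hr) hx hrx (hmoved x hx ?_))
    by_contra! hh
    exact hxP ((hPmem x).2 ⟨hx, hh.1, hh.2⟩)
  push Not at hcase
  obtain ⟨x₁, hx₁, hx₁a⟩ := S.ne_zero_of_comp (comp_mem S.dec l a) hl
  rw [polar_comp S.dec hx₁, polar_comm] at hx₁a
  rcases Nat.lt_or_ge k 4 with hk4 | hk4
  · obtain ⟨z, hz, hQz⟩ : ∃ z ∈ P, Q z ≠ 0 := by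
      by_contra! hh
      obtain ⟨r, hr, hr0⟩ := Submodule.exists_mem_ne_zero_of_ne_bot (p := P) (fun h => by
        rw [h, finrank_bot] at hPdim; omega)
      set R := D l ⊓ qperp Q (F ∙ r)
      have hRP : R ≤ P := fun x hx => hcase r hr hr0 (hh r hr) x hx.1 (hx.2 r (Submodule.mem_span_singleton_self r))
      have h1 := singular_finrank_le (S.dec.nd l) (R.comap (D l).subtype) (fun x hx => hh x (hRP hx))
      have h2 : finrank F (R.comap (D l).subtype) = finrank F R :=
        LinearEquiv.finrank_eq (Submodule.comapSubtypeEquivOfLe inf_le_left)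
      have h3 := Submodule.finrank_sup_add_finrank_inf_eq (D l) (qperp Q (F ∙ r))
      have h4 := (D l ⊔ qperp Q (F ∙ r)).finrank_le
      have h5 := finrank_qperp S.nondeg (F ∙ r)
      rw [finrank_span_singleton hr0] at h5
      rw [h2, S.dec.dim] at h1
      rw [S.dec.dim] at h3
      change _ + finrank F R = _ at h3
      omega
    exact S.fixed_case (by omega) hm hz.1 hQz (by rw [hfix z hz]; exact hz.1) hx₁
      (hmoved x₁ hx₁ (Or.inl (by rw [hx₁a]; exact one_ne_zero)))
  -- dimension at least four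
  suffices h : ∃ x ∈ D l, Q x ≠ 0 ∧ x ∉ P ∧ (∃ p ∈ P, polar Q x p ≠ 0) ∧ ∃ z ∈ P, Q z = Q x by
    obtain ⟨x, hx, hQx, hxP, ⟨p, hp, hxp⟩, z, hz, hQz⟩ := h
    have hmx : m.1 x ∉ D l := hmoved x hx (by by_contra! hh; exact hxP ((hPmem x).2 ⟨hx, hh.1, hh.2⟩))
    refine Or.inl ⟨m.1 x, m.1 z, l, by rw [hfix z hz]; exact hz.1, fun q hq => ?_,
      (S.rel_block hx hz.1 hQx (hQz ▸ hQx) ⟨Q x, by rw [hQz]⟩).map hm⟩
    by_cases hql : q = l
    · exact hmx (hql ▸ hq)
    · have := S.dec.orth q l hql _ hq _ hp.1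
      rw [← hfix p hp, polar_isom] at this
      exact hxp this
  by_cases hsing : ∃ r ∈ P, r ≠ 0 ∧ Q r = 0
  · obtain ⟨r, hr, hr0, hQr⟩ := hsing
    obtain ⟨x, hx, hxr, hQx⟩ := S.exists_ns_nonperp hr.1 hr0
    refine ⟨x, hx, hQx, fun hxP => ?_, ⟨r, hr, by rw [hxr]; exact one_ne_zero⟩, ?_⟩
    · have h1 : x₁ - polar Q r x₁ • x ∈ P := hcase r hr hr0 hQr _ ((D l).sub_mem hx₁ ((D l).smul_mem _ hx))
        (by rw [polar_sub_right, polar_smul_r', polar_comm _ r x, hxr]; ring)
      have h2 := ((hPmem _).1 h1).2.1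
      rw [polar_sub_right, polar_smul_r', ((hPmem x).1 hxP).2.1, hx₁a, mul_zero, sub_zero] at h2
      exact one_ne_zero h2
    · obtain ⟨z, hz, hQz⟩ := S.values_perp hr.1 (Or.inl hk4) (Q x)
      exact ⟨z, hcase r hr hr0 hQr z hz.1 (hz.2 r (Submodule.mem_span_singleton_self r)), hQz⟩
  push Not at hsing
  obtain ⟨x, hx, hQx, hxP, hp, hz⟩ := S.aniso_witness hk4 inf_le_left hPdim hsing
  exact ⟨x, hx, hQx, hxP, hp, hz⟩

/-- A product of two reflections fixing a line of a plane block and moving the block. -/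
theorem Setup.fixed_line (hk : k = 2) {m : orthGroup Q} (hm : m ∈ M) {l : Fin t} {r x : V} (hr : r ∈ D l)
    (hr0 : r ≠ 0) (hmr : m.1 r = r) (hx : x ∈ D l) (hmx : m.1 x ∉ D l) : Seeded M D := by
  by_cases hQr : Q r = 0
  · exact Or.inr (S.top_of_fixed_plane hk hm hr hr0 hQr hmr hx hmx)
  · exact S.fixed_case (by omega) hm hr hQr (by rw [hmr]; exact hr) hx hmx

theorem Setup.exists_perp_line (hk : k = 2) (l : Fin t) (a : V) : ∃ r ∈ D l, r ≠ 0 ∧ polar Q a r = 0 := by
  set R := D l ⊓ qperp Q (F ∙ a)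
  have hR : R ≠ ⊥ := fun h => by
    have h1 := Submodule.finrank_sup_add_finrank_inf_eq (D l) (qperp Q (F ∙ a))
    have h2 := (D l ⊔ qperp Q (F ∙ a)).finrank_le
    have h3 := finrank_qperp S.nondeg (F ∙ a)
    have h4 : finrank F (F ∙ a : Submodule F V) ≤ 1 := by
      by_cases h0 : a = 0
      · rw [h0, Submodule.span_zero_singleton, finrank_bot]; exact Nat.zero_le 1
      · exact (finrank_span_singleton h0).le
    change _ + finrank F R = _ at h1
    rw [h, finrank_bot, S.dec.dim] at h1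
    omega
  obtain ⟨r, hr, hr0⟩ := Submodule.exists_mem_ne_zero_of_ne_bot hR
  exact ⟨r, hr.1, hr0, hr.2 a (Submodule.mem_span_singleton_self a)⟩

/-- All images of non-singular block vectors meet every block. -/
theorem Setup.full_or_seeded (hk : k = 2) {g : orthGroup Q} (hg : g ∈ M) (hgH : ¬ InH D g) :
    Seeded M D ∨ ∀ i, ∀ y ∈ D i, Q y ≠ 0 → ∀ l, comp S.dec l (g.1 y) ≠ 0 := by
  refine or_iff_not_imp_left.2 fun hns i y hy hQy l hl => hns ?_
  set a := g.1 y
  by_cases hoff : OffBlock D a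
  · obtain ⟨i', y', hy', hQy', hout⟩ := S.exists_class_out g hQy (K := LinearMap.ker (compLin S l)) (by
      obtain ⟨v, hv, hQv⟩ := S.values_block l 1
      refine ⟨v, fun h => ?_⟩
      have h' : comp S.dec l v = 0 := h
      rw [comp_self S.dec hv] at h'
      rw [h', QuadraticMap.map_zero] at hQv
      exact zero_ne_one hQv)
    set b := g.1 y'
    have hbl : comp S.dec l b ≠ 0 := hout
    have hrel : Rel M a b := (S.rel_block hy hy' hQy (hQy'.symm ▸ hQy) ⟨Q y, by rw [hQy']⟩).map hg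
    by_cases hboff : OffBlock D b
    swap
    · simp only [OffBlock, not_forall, not_not] at hboff
      obtain ⟨j, hj⟩ := hboff
      exact Or.inl ⟨a, b, j, hj, hoff, hrel⟩
    obtain ⟨x, hx, hxb⟩ := S.ne_zero_of_comp (comp_mem S.dec l b) hbl
    rw [polar_comp S.dec hx, polar_comm] at hxb
    obtain ⟨r, hr, hr0, hbr⟩ := S.exists_perp_line hk l b
    have hperp : ∀ v ∈ D l, polar Q a v = 0 := fun v hv => by
      rw [polar_comm]; exact (comp_eq_zero S.dec).1 hl v hv
    refine S.fixed_line hk hrel.symm.2.2.2 hr hr0 (refl_pair_fix hbr (hperp r hr)) hx fun h => hboff l ?_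
    change (refl Q b).1 ((refl Q a).1 x) ∈ D l at h
    rw [refl_fix Q (hperp x hx), refl_apply, hxb, mul_one] at h
    have h1 := (D l).sub_mem hx h
    rw [sub_sub_cancel] at h1
    exact ((D l).smul_mem_iff (inv_ne_zero hrel.2.1)).1 h1
  simp only [OffBlock, not_forall, not_not] at hoff
  obtain ⟨j, hj⟩ := hoff
  by_cases hmap : ∀ x ∈ D i, g.1 x ∈ D j
  · obtain ⟨i₀, y₀, hy₀, hQy₀, hoff₀⟩ := S.exists_off hgH
    obtain ⟨y₁, hy₁, hQy₁⟩ := S.values_block i (Q y₀)
    exact Or.inl ⟨g.1 y₀, g.1 y₁, j, hmap y₁ hy₁, hoff₀,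
      (S.rel_block hy₀ hy₁ hQy₀ (hQy₁.symm ▸ hQy₀) ⟨Q y₀, by rw [hQy₁]⟩).map hg⟩
  · push Not at hmap
    obtain ⟨x, hx, hgx⟩ := hmap
    exact S.fixed_case (by omega) hg hy hQy hj hx hgx

/-- Two compatible perpendicular reflections at an image give a seed. -/
theorem Setup.seed_two_pair (hk : k = 2) {g : orthGroup Q} (hg : g ∈ M)
    (hfull : ∀ i, ∀ y ∈ D i, Q y ≠ 0 → ∀ l, comp S.dec l (g.1 y) ≠ 0) {i₀ i j : Fin t} (hij : i ≠ j) {y : V}
    (hy : y ∈ D i₀) (hQy : Q y ≠ 0) {zi zj : V} (hzi : zi ∈ D i) (hzj : zj ∈ D j) (hQi : Q zi ≠ 0) (hQj : Q zj ≠ 0)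
    (hsq : IsSquare (Q zi * Q zj)) (hbi : polar Q zi (g.1 y) = 0) (hbj : polar Q zj (g.1 y) = 0) : Seeded M D := by
  classical
  set b := g.1 y
  set h := refl Q zi * refl Q zj with hh
  have hhM : h ∈ M := (S.rel_block hzi hzj hQi hQj hsq).2.2.2
  have hhb : h.1 b = b := refl_pair_fix hbi hbj
  obtain ⟨u, hu, huz⟩ := S.ne_zero_of_comp hzi (fun h0 => hQi (by rw [h0, QuadraticMap.map_zero]))
  obtain ⟨i', y', hy', hQy', hout⟩ := S.exists_class_out g hQy
    (K := LinearMap.ker ((h.1 : V →ₗ[F] V) - LinearMap.id)) (by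
      refine ⟨u, fun hK => hQi ?_⟩
      have hK' : (refl Q zi).1 ((refl Q zj).1 u) - u = 0 := hK
      rw [refl_fix Q (S.dec.orth j i (Ne.symm hij) zj hzj u hu), refl_apply, polar_comm _ zi u, huz, sub_sub,
        add_comm, ← sub_sub, sub_self, zero_sub, neg_eq_zero, smul_eq_zero] at hK'
      rcases hK' with h0 | h0
      · simpa using h0
      · rw [h0, QuadraticMap.map_zero])
  set a := g.1 y'
  have hha : h.1 a ≠ a := fun e => hout (by show h.1 a - a = 0; rw [e, sub_self])
  have hQa : Q a ≠ 0 := by simp only [a, apply_quad, hQy']; exact hQy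
  have hrel : Rel M a b := (S.rel_block hy' hy (hQy'.symm ▸ hQy) hQy ⟨Q y, by rw [hQy']⟩).map hg
  have hrel' : Rel M (h.1 a) b := by
    have := hrel.map hhM
    rwa [hhb] at this
  have hm : refl Q a * refl Q (h.1 a) ∈ M := (hrel.trans hrel'.symm).2.2.2
  obtain ⟨l, -, hli, hlj⟩ := S.spare ∅ (by have := Setup.blocks_two (S := S) hk; simp; omega) i j
  obtain ⟨j', hj'', hj'i, hj'j⟩ := S.spare {l} (by have := Setup.blocks_two (S := S) hk; simp; omega) i j
  rw [Finset.mem_singleton] at hj''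
  have hout' : ∀ p, p ≠ i → p ≠ j → ∀ v ∈ D p, h.1 v = v := fun p h1 h2 v hv =>
    refl_pair_fix (S.dec.orth i p (Ne.symm h1) zi hzi v hv) (S.dec.orth j p (Ne.symm h2) zj hzj v hv)
  have hpa : ∀ p, p ≠ i → p ≠ j → ∀ v ∈ D p, polar Q (h.1 a) v = polar Q a v := fun p h1 h2 v hv => by
    conv_lhs => rw [← hout' p h1 h2 v hv, polar_isom]
  obtain ⟨r, hr, hr0, har⟩ := S.exists_perp_line hk l a
  have hal := hfull i' y' hy' (hQy'.symm ▸ hQy)
  obtain ⟨x, hx, hxa⟩ := S.ne_zero_of_comp (comp_mem S.dec l a) (hal l)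
  rw [polar_comp S.dec hx, polar_comm] at hxa
  refine S.fixed_line hk hm hr hr0 (refl_pair_fix har ((hpa l hli hlj r hr).trans har)) hx fun hmem => hha ?_
  obtain ⟨α, β, e, hab⟩ := refl_pair_sub hQa (show Q (h.1 a) ≠ 0 by rwa [apply_quad]) x
  rw [e, add_assoc] at hmem
  have hin := ((D l).add_mem_iff_right hx).1 hmem
  have hc : comp S.dec j' (α • a + β • h.1 a) = 0 := comp_other S.dec hj'' hin
  have he : comp S.dec j' (h.1 a) = comp S.dec j' a := comp_unique S.dec (comp_mem S.dec j' a) fun v hv => by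
    rw [polar_comp S.dec hv, polar_comm _ v (h.1 a), hpa j' hj'i hj'j v hv, polar_comm]
  rw [comp_add, comp_smul, comp_smul, he, ← add_smul, smul_eq_zero] at hc
  have hαβ : α + β = 0 := hc.resolve_right (hal j')
  have hβ : β ≠ 0 := fun h0 => by
    rw [h0, add_zero] at hαβ
    exact (hab (Or.inl (by rw [hxa]; exact one_ne_zero))).elim (fun h1 => h1 hαβ) (fun h1 => h1 h0)
  -- the difference is supported on the blocks `i`, `j`
  have hdiff : α • a + β • h.1 a = β • (h.1 a - a) := by
    rw [eq_neg_of_add_eq_zero_left hαβ]; module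
  rw [hdiff, (D l).smul_mem_iff hβ] at hin
  have hzero : comp S.dec l (h.1 a - a) = 0 := (comp_eq_zero S.dec).2 fun v hv => by
    rw [polar_sub_right, polar_comm _ v (h.1 a), hpa l hli hlj v hv, polar_comm _ v a, sub_self]
  rwa [comp_self S.dec hin, sub_eq_zero] at hzero

/-- Plane blocks. -/
theorem Setup.seed_two (hk : k = 2) {g : orthGroup Q} (hg : g ∈ M) (hgH : ¬ InH D g) : Seeded M D := by
  classical
  rcases S.full_or_seeded hk hg hgH with h | hfull
  · exact h
  by_contra hns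
  have ht : 5 ≤ t := Setup.blocks_two (S := S) hk
  let N : V → Finset (Fin t) := fun b => Finset.univ.filter fun l => Q (comp S.dec l b) ≠ 0
  -- at most two non-singular components
  have hbad : ∀ i, ∀ y ∈ D i, Q y ≠ 0 → (N (g.1 y)).card ≤ 2 := by
    intro i y hy hQy
    by_contra! h3
    obtain ⟨p₁, p₂, p₃, h1, h2, h3', h12, h13, h23⟩ := Finset.two_lt_card_iff.1 h3
    have hz : ∀ p ∈ N (g.1 y), ∃ z ∈ D p, Q z ≠ 0 ∧ polar Q z (g.1 y) = 0 := fun p hp => by
      obtain ⟨-, -, z, hz, hQz, -, hzc, -⟩ :=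
        S.plane_line hk (comp_mem S.dec p (g.1 y)) (Finset.mem_filter.1 hp).2
      exact ⟨z, hz, hQz, by rwa [polar_comp S.dec hz] at hzc⟩
    obtain ⟨z₁, hz₁, hQ1, hb1⟩ := hz p₁ h1
    obtain ⟨z₂, hz₂, hQ2, hb2⟩ := hz p₂ h2
    obtain ⟨z₃, hz₃, hQ3, hb3⟩ := hz p₃ h3'
    rcases isSquare_pigeon (Q z₁) (Q z₂) (Q z₃) with h | h | h
    · exact hns (S.seed_two_pair hk hg hfull h12 hy hQy hz₁ hz₂ hQ1 hQ2 h hb1 hb2)
    · exact hns (S.seed_two_pair hk hg hfull h13 hy hQy hz₁ hz₃ hQ1 hQ3 h hb1 hb3)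
    · exact hns (S.seed_two_pair hk hg hfull h23 hy hQy hz₂ hz₃ hQ2 hQ3 h hb2 hb3)
  set i₀ : Fin t := ⟨0, by omega⟩
  obtain ⟨y₀, hy₀, hy₀1⟩ := S.values_block i₀ 1
  have hiso : ∃ i, ∃ v ∈ D i, v ≠ 0 ∧ Q v = 0 := by
    by_contra! hh
    have h2 := hbad i₀ y₀ hy₀ (by rw [hy₀1]; exact one_ne_zero)
    have hN : N (g.1 y₀) = Finset.univ := Finset.eq_univ_of_forall fun l => Finset.mem_filter.2
      ⟨Finset.mem_univ _, hh l _ (comp_mem S.dec l _) (hfull i₀ y₀ hy₀ (by rw [hy₀1]; exact one_ne_zero) l)⟩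
    rw [hN, Finset.card_univ, Fintype.card_fin] at h2
    omega
  have hq : 7 ≤ Fintype.card F := (S.small_two hk).2 hiso
  obtain ⟨i', hi'⟩ := hiso
  obtain ⟨e, he, he0, hQe⟩ := S.iso_transfer (j := i₀) hi'
  obtain ⟨s, hs, hQs, hse⟩ := exists_singular_polar S.nondeg (S.dec.nd i₀) he hQe he0 he he0
  obtain ⟨f, hf, hQf, hef⟩ : ∃ f ∈ D i₀, Q f = 0 ∧ polar Q e f = 1 :=
    ⟨(polar Q s e)⁻¹ • s, (D i₀).smul_mem _ hs, by rw [quad_smul', hQs, mul_zero],
      by rw [polar_smul_r', polar_comm _ e s, inv_mul_cancel₀ hse]⟩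
  obtain ⟨a, ha⟩ : ∃ a : F, a ∉ ({0, 1, -1} : Finset F) := by
    by_contra! hh
    have h6 := Finset.card_le_card (show Finset.univ ⊆ ({0, 1, -1} : Finset F) from fun x _ => hh x)
    have h7 := Finset.card_le_three (a := (0 : F)) (b := 1) (c := -1)
    rw [Finset.card_univ] at h6
    omega
  simp only [Finset.mem_insert, Finset.mem_singleton, not_or] at ha
  set c := a * a
  have hc1 : c ≠ 1 := fun h => (mul_self_eq_one_iff.1 h).elim ha.2.1 ha.2.2
  have hc0 : c ≠ 0 := mul_ne_zero ha.1 ha.1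
  obtain ⟨T, hTs, hTc⟩ := Finset.exists_subset_card_eq (s := (Finset.univ : Finset F).erase 0) (n := 5) (by
    rw [Finset.card_erase_of_mem (Finset.mem_univ _), Finset.card_univ]; omega)
  set y : F → V := fun s => e + s • f
  have hyD : ∀ s, y s ∈ D i₀ := fun s => (D i₀).add_mem he ((D i₀).smul_mem _ hf)
  have hyQ : ∀ s, Q (y s) = s := fun s => by
    simp only [y, quad_add', quad_smul', polar_smul_r', hQe, hQf, hef]; ring
  have hT0 : ∀ s ∈ T, s ≠ 0 := fun s hs => (Finset.mem_erase.1 (hTs hs)).1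
  -- blocks where the plane projects to a singular line
  let R : Fin t → Prop := fun l => ∃ r ∈ D l, Q r = 0 ∧ ∀ v ∈ D i₀, comp S.dec l (g.1 v) ∈ F ∙ r
  have hR : ∀ l, R l → ∃ p ∈ D i₀, g.1 p ∈ D l ∧ g.1 p ≠ 0 := by
    rintro l ⟨r, hr, hQr, hline⟩
    by_contra! hno
    apply hns
    have h1ne : Q (y 1) ≠ 0 := by rw [hyQ]; exact one_ne_zero
    have hcne : Q (y c) ≠ 0 := by rw [hyQ]; exact hc0
    have hrel : Rel M (g.1 (y 1)) (g.1 (y c)) :=
      (S.rel_block (hyD 1) (hyD c) h1ne hcne (by rw [hyQ, hyQ, one_mul]; exact ⟨a, rfl⟩)).map hg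
    obtain ⟨s₁, hs₁⟩ := Submodule.mem_span_singleton.1 (hline _ (hyD 1))
    obtain ⟨s₂, hs₂⟩ := Submodule.mem_span_singleton.1 (hline _ (hyD c))
    have hs₁0 : s₁ ≠ 0 := fun h => hfull i₀ (y 1) (hyD 1) h1ne l (by rw [← hs₁, h, zero_smul])
    have hr0 : r ≠ 0 := fun h => hfull i₀ (y 1) (hyD 1) h1ne l (by rw [← hs₁, h, smul_zero])
    obtain ⟨x, hx, hxr⟩ := S.ne_zero_of_comp hr hr0
    have hfixr : ∀ v s', s' • r = comp S.dec l v → polar Q v r = 0 := fun v s' h => by
      rw [← polar_comp' S.dec hr, ← h, polar_smul_l', polar_self', hQr]; ring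
    refine S.fixed_line hk hrel.2.2.2 hr hr0 (refl_pair_fix (hfixr _ _ hs₁) (hfixr _ _ hs₂)) hx fun hmem => ?_
    obtain ⟨α, β, e', hab⟩ := refl_pair_sub (x := x) hrel.1 hrel.2.1
    rw [e', add_assoc] at hmem
    have hin := ((D l).add_mem_iff_right hx).1 hmem
    rw [← map_smul, ← map_smul, ← map_add] at hin
    have hz := hno _ ((D i₀).add_mem ((D i₀).smul_mem α (hyD 1)) ((D i₀).smul_mem β (hyD c))) hin
    rw [g.1.map_eq_zero_iff] at hz
    have hax : polar Q (g.1 (y 1)) x ≠ 0 := by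
      rw [← polar_comp' S.dec hx, ← hs₁, polar_smul_l', polar_comm, hxr, mul_one]; exact hs₁0
    have h1 := congrArg (fun v => polar Q e v) hz
    have h2 := congrArg (fun v => polar Q f v) hz
    simp only [y, polar_add_right, polar_smul_r', polar_self', hQe, hQf, hef, polar_comm _ f e, polar_zero_right,
      mul_zero, zero_add, add_zero, mul_one] at h1 h2
    have hβ : β = 0 := by
      have : (c - 1) * β = 0 := by linear_combination h1 - h2
      exact (mul_eq_zero.1 this).resolve_left (sub_ne_zero.2 hc1)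
    have hα : α = 0 := by rw [hβ] at h2; linear_combination h2
    exact (hab (Or.inl hax)).elim (fun h => h hα) (fun h => h hβ)
  have hRone : ∀ l l', R l → R l' → l = l' := by
    intro l l' hl hl'
    by_contra hne
    obtain ⟨p, hp, hpl, hp0⟩ := hR l hl
    obtain ⟨p', hp', hpl', hp'0⟩ := hR l' hl'
    obtain ⟨j, -, hjl, hjl'⟩ := S.spare ∅ (by simp; omega) l l'
    have hli : LinearIndependent F ![p, p'] :=
      (LinearIndependent.pair_iff' (fun h => hp0 (by rw [h, map_zero]))).2 fun b hb => by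
        rw [← hb, map_smul] at hpl' hp'0
        exact hne (block_unique S.dec ((D l).smul_mem b hpl) hpl' hp'0)
    have hsp : Submodule.span F {p, p'} = D i₀ := Submodule.eq_of_le_of_finrank_eq
      (Submodule.span_le.2 (by simp [Set.insert_subset_iff, hp, hp'])) (by
        rw [S.dec.dim, hk, show ({p, p'} : Set V) = Set.range ![p, p'] by simp [Matrix.range_cons, Set.pair_comm],
          finrank_span_eq_card hli]
        simp)
    obtain ⟨u, v, huv⟩ := Submodule.mem_span_pair.1 (show y₀ ∈ Submodule.span F {p, p'} by rw [hsp]; exact hy₀)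
    refine hfull i₀ y₀ hy₀ (by rw [hy₀1]; exact one_ne_zero) j ?_
    rw [← huv, map_add, map_smul, map_smul, comp_add, comp_smul, comp_smul, comp_other S.dec hjl hpl,
      comp_other S.dec hjl' hpl', smul_zero, smul_zero, add_zero]
  have hcount : ∀ l, ¬ R l → 3 ≤ (T.filter fun s => l ∈ N (g.1 (y s))).card := by
    intro l hl
    by_contra! hlt
    have h3 : 2 < (T.filter fun s => Q (comp S.dec l (g.1 (y s))) = 0).card := by
      have := Finset.card_filter_add_card_filter_not (s := T) (fun s => l ∈ N (g.1 (y s)))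
      have e : (T.filter fun s => ¬ l ∈ N (g.1 (y s))) = T.filter fun s => Q (comp S.dec l (g.1 (y s))) = 0 :=
        Finset.filter_congr fun s _ => by simp [N]
      rw [e] at this
      omega
    obtain ⟨s₁, s₂, s₃, h1, h2, h3', h12, h13, h23⟩ := Finset.two_lt_card_iff.1 h3
    simp only [Finset.mem_filter] at h1 h2 h3'
    set c₁ := comp S.dec l (g.1 (y s₁))
    set c₂ := comp S.dec l (g.1 (y s₂))
    have hd : s₂ - s₁ ≠ 0 := sub_ne_zero.2 (Ne.symm h12)
    have hc₁ : c₁ ≠ 0 := hfull i₀ _ (hyD s₁) (by rw [hyQ]; exact hT0 _ h1.1) l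
    have hcomb : ∀ v ∈ D i₀, ∀ u w : F, v = u • y s₁ + w • y s₂ → comp S.dec l (g.1 v) = u • c₁ + w • c₂ :=
      fun v _ u w h => by rw [h, map_add, map_smul, map_smul, comp_add, comp_smul, comp_smul]
    have h3c := hcomb (y s₃) (hyD s₃) ((s₂ - s₃) / (s₂ - s₁)) ((s₃ - s₁) / (s₂ - s₁)) (by
      simp only [y]; match_scalars <;> field_simp <;> ring)
    have horth : polar Q c₁ c₂ = 0 := by
      have h := h3'.2
      rw [h3c, quad_add', quad_smul', quad_smul', h1.2, h2.2, polar_smul_l', polar_smul_r'] at h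
      simp only [mul_zero, add_zero, zero_add] at h
      rcases mul_eq_zero.1 h with h | h
      · exact absurd h (div_ne_zero (sub_ne_zero.2 h23) hd)
      rcases mul_eq_zero.1 h with h | h
      · exact absurd h (div_ne_zero (sub_ne_zero.2 (Ne.symm h13)) hd)
      · exact h
    apply hl
    refine ⟨c₁, comp_mem S.dec l _, h1.2, ?_⟩
    have hc₂ : c₂ ∈ F ∙ c₁ := by
      by_contra hne
      have hli : LinearIndependent F ![c₁, c₂] := (LinearIndependent.pair_iff' hc₁).2 fun b hb =>
        hne (Submodule.mem_span_singleton.2 ⟨b, hb⟩)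
      have h := singular_finrank_le (S.dec.nd l) ((Submodule.span F {c₁, c₂}).comap (D l).subtype) (by
        intro z hz
        obtain ⟨u, w, huw⟩ := Submodule.mem_span_pair.1 hz
        show Q (z : V) = 0
        change u • c₁ + w • c₂ = (z : V) at huw
        rw [← huw, quad_add', quad_smul', quad_smul', h1.2, h2.2, polar_smul_l', polar_smul_r', horth]; ring)
      have h' : finrank F ((Submodule.span F {c₁, c₂}).comap (D l).subtype) = finrank F (Submodule.span F {c₁, c₂}) :=
        LinearEquiv.finrank_eq (Submodule.comapSubtypeEquivOfLe (Submodule.span_le.2 (by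
          simp [Set.insert_subset_iff, c₁, c₂, comp_mem])))
      rw [h', S.dec.dim, show ({c₁, c₂} : Set V) = Set.range ![c₁, c₂] by simp [Matrix.range_cons, Set.pair_comm],
        finrank_span_eq_card hli, hk] at h
      simp at h
    intro v hv
    have hsp : Submodule.span F {y s₁, y s₂} = D i₀ := by
      have hli : LinearIndependent F ![y s₁, y s₂] := by
        refine LinearIndependent.pair_iff.2 fun u w huw => ?_
        have h1' := congrArg (fun v => polar Q e v) huw
        have h2' := congrArg (fun v => polar Q f v) huw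
        simp only [y, polar_add_right, polar_smul_r', polar_self', hQe, hQf, hef, polar_comm _ f e, polar_zero_right,
          mul_zero, zero_add, add_zero, mul_one] at h1' h2'
        have hw : (s₂ - s₁) * w = 0 := by linear_combination h1' - s₁ * h2'
        have hw' := (mul_eq_zero.1 hw).resolve_left hd
        exact ⟨by linear_combination h2' - hw', hw'⟩
      refine Submodule.eq_of_le_of_finrank_eq (Submodule.span_le.2 (by simp [Set.insert_subset_iff, hyD])) ?_
      rw [S.dec.dim, hk, show ({y s₁, y s₂} : Set V) = Set.range ![y s₁, y s₂] by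
        simp [Matrix.range_cons, Set.pair_comm], finrank_span_eq_card hli]
      simp
    obtain ⟨u, w, huw⟩ := Submodule.mem_span_pair.1 (show v ∈ Submodule.span F {y s₁, y s₂} by rw [hsp]; exact hv)
    rw [hcomb v hv u w huw.symm]
    exact Submodule.add_mem _ (Submodule.smul_mem _ _ (Submodule.mem_span_singleton_self c₁))
      (Submodule.smul_mem _ _ hc₂)
  -- count the incidences
  have hsum : ∑ l, (T.filter fun s => l ∈ N (g.1 (y s))).card = ∑ s ∈ T, (N (g.1 (y s))).card := by
    simp only [Finset.card_filter]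
    rw [Finset.sum_comm]
    refine Finset.sum_congr rfl fun s _ => ?_
    rw [← Finset.card_filter]
    congr 1
    ext; simp
  have hup : ∑ s ∈ T, (N (g.1 (y s))).card ≤ 10 := by
    refine (Finset.sum_le_card_nsmul T _ 2 fun s hs => hbad i₀ _ (hyD s) (by rw [hyQ]; exact hT0 s hs)).trans ?_
    rw [hTc, smul_eq_mul]
  have hgood : t ≤ (Finset.univ.filter fun l => ¬ R l).card + 1 := by
    have h1 := Finset.card_filter_add_card_filter_not (s := (Finset.univ : Finset (Fin t))) R
    have h2 : ((Finset.univ : Finset (Fin t)).filter R).card ≤ 1 := Finset.card_le_one.2 fun l hl l' hl' =>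
      hRone l l' (Finset.mem_filter.1 hl).2 (Finset.mem_filter.1 hl').2
    rw [Finset.card_univ, Fintype.card_fin] at h1
    omega
  have hlow : 3 * (Finset.univ.filter fun l => ¬ R l).card ≤ ∑ l, (T.filter fun s => l ∈ N (g.1 (y s))).card := by
    refine le_trans ?_ (Finset.sum_le_sum_of_subset (Finset.filter_subset (fun l => ¬ R l) Finset.univ))
    have := Finset.card_nsmul_le_sum (Finset.univ.filter fun l => ¬ R l)
      (fun l => (T.filter fun s => l ∈ N (g.1 (y s))).card) 3 fun l hl => hcount l (Finset.mem_filter.1 hl).2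
    rw [smul_eq_mul] at this
    linarith
  omega

theorem Setup.seed {g : orthGroup Q} (hg : g ∈ M) (hgH : ¬ InH D g) : Seeded M D := by
  rcases (show k = 2 ∨ 3 ≤ k by have := S.two_le; omega) with hk | hk
  · exact S.seed_two hk hg hgH
  · exact S.seed_large hk hg hgH

end CfsgLib.Classical.DecompOrth
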