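import Cfsg.Agent.Lib.Classical.DecompOrth.Axis

/-!
# One Siegel transformation leaving the support of its axis gives all of `Ω`
-/

set_option autoImplicit false
set_option linter.unusedSectionVars false

open Module QuadraticMap CfsgLib.Orth

namespace CfsgLib.Classical.DecompOrth

variable {F V : Type*} [Field F] [AddCommGroup V] [Module F V] [FiniteDimensional F V] [Fintype F]
  {Q : QuadraticForm F V} {t k : ℕ} {D : Fin t → Submodule F V} {M : Subgroup (orthGroup Q)}
variable (S : Setup M k D)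
include S

theorem Setup.orth_of_comp {a b : V} (h : ∀ i, comp S.dec i a = 0 ∨ comp S.dec i b = 0) : polar Q a b = 0 := by
  rw [← sum_comp S.dec S.nondeg b, show polar Q a (∑ i, comp S.dec i b) = ∑ i, polar Q a (comp S.dec i b) from
    map_sum (QuadraticMap.polarBilin Q a) _ _]
  refine Finset.sum_eq_zero fun i _ => ?_
  rcases h i with h | h
  · rw [← polar_comp' S.dec (comp_mem S.dec i b), h, polar_zero_left]
  · rw [h, polar_zero_right]

theorem Setup.par_sum {e : V} (he : Q e = 0) (s : Finset (Fin t)) (f : Fin t → V) (h : ∀ i ∈ s, Par M e (f i)) :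
    Par M e (∑ i ∈ s, f i) :=
  Finset.sum_induction f (Par M e) (fun _ _ => S.par_add he) (par_zero he) h

/-- The blocks met by a vector. -/
noncomputable def supp (S : Setup M k D) (v : V) : Finset (Fin t) :=
  have : DecidablePred fun i => comp S.dec i v ≠ 0 := Classical.decPred _
  Finset.univ.filter fun i => comp S.dec i v ≠ 0

theorem Setup.mem_supp {v : V} {i : Fin t} : i ∈ supp S v ↔ comp S.dec i v ≠ 0 := by
  unfold supp; simp

theorem Setup.card_supp_le {v : V} {l : Fin t} (hv : v ∈ D l) : (supp S v).card ≤ 1 :=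
  (Finset.card_le_card (s := supp S v) (t := {l}) fun i hi => Finset.mem_singleton.2
    (by_contra fun h => (S.mem_supp).1 hi (comp_other S.dec h hv))).trans (Finset.card_singleton l).le

theorem Setup.spare (hS : Finset (Fin t)) (h : hS.card + 3 ≤ t) (a b : Fin t) :
    ∃ p, p ∉ hS ∧ p ≠ a ∧ p ≠ b := by
  classical
  by_contra! hh
  have h1 := Finset.card_le_card (show Finset.univ ⊆ hS ∪ {a, b} from fun p _ => by
    by_cases hp : p ∈ hS
    · exact Finset.mem_union_left _ hp
    by_cases hpa : p = a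
    · exact Finset.mem_union_right _ (by simp [hpa])
    · exact Finset.mem_union_right _ (by simp [hh p hp hpa]))
  have h2 := Finset.card_union_le hS {a, b}
  have h3 := Finset.card_le_two (a := a) (b := b)
  rw [Finset.card_univ, Fintype.card_fin] at h1
  omega

theorem Setup.spare_one (hS : Finset (Fin t)) (h : hS.card + 2 ≤ t) (a : Fin t) : ∃ p, p ∉ hS ∧ p ≠ a := by
  classical
  by_contra! hh
  have h1 := Finset.card_le_card (show Finset.univ ⊆ insert a hS from fun p _ => by
    by_cases hp : p ∈ hS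
    · exact Finset.mem_insert_of_mem hp
    · rw [hh p hp]; exact Finset.mem_insert_self a hS)
  have h2 := Finset.card_insert_le a hS
  rw [Finset.card_univ, Fintype.card_fin] at h1
  omega

theorem Setup.top {e w : V} (he : Q e = 0) (he0 : e ≠ 0) (hw : Par M e w) {l : Fin t} (hel : comp S.dec l e = 0)
    (hwl : comp S.dec l w ≠ 0) (hS : (supp S e).card + 3 ≤ t ∨ ((∃ i, e ∈ D i) ∧ 4 ≤ k) ∨
      ((supp S e).card + 2 ≤ t ∧ k = 3 ∧ ∃ i, Q (comp S.dec i e) ≠ 0)) :
    commutator (orthGroup Q) ≤ M := by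
  classical
  have hperp : ∀ {i}, comp S.dec i e = 0 → ∀ x ∈ D i, polar Q x e = 0 := fun h => (comp_eq_zero S.dec).1 h
  -- spare reflections fixing the axis
  have hspare : ∀ j, comp S.dec j e = 0 → ∃ p, p ≠ l ∧ p ≠ j ∧ ∃ W : Submodule F V, W ≤ D p ∧
      (∀ c : F, ∃ a ∈ W, Q a = c) ∧ ∀ x ∈ W, polar Q x e = 0 := by
    intro j hj
    rcases hS with h | ⟨⟨i, hi⟩, hk⟩ | ⟨-, hk, i, hi⟩
    · obtain ⟨p, hp, hpl, hpj⟩ := S.spare _ h l j
      exact ⟨p, hpl, hpj, D p, le_rfl, S.values_block p, hperp (by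
        by_contra hne; exact hp (S.mem_supp.2 hne))⟩
    · have hne : ∀ {j}, comp S.dec j e = 0 → i ≠ j := fun h h' => he0 (by rwa [← h', comp_self S.dec hi] at h)
      exact ⟨i, hne hel, hne hj, D i ⊓ qperp Q (F ∙ e), inf_le_left, S.values_perp hi (Or.inl hk), fun x hx => by
        rw [polar_comm]; exact hx.2 e (Submodule.mem_span_singleton_self e)⟩
    · -- the perpendicular of a non-singular component of the axis
      have hne : ∀ {j}, comp S.dec j e = 0 → i ≠ j := fun h h' => hi (by rw [h', h, QuadraticMap.map_zero])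
      exact ⟨i, hne hel, hne hj, D i ⊓ qperp Q (F ∙ comp S.dec i e), inf_le_left,
        S.values_perp (comp_mem S.dec i e) (Or.inr ⟨hk.ge, hi, (S.small_three hk).1⟩), fun x hx => by
          rw [← polar_comp S.dec hx.1 e, polar_comm]
          exact hx.2 _ (Submodule.mem_span_singleton_self _)⟩
  have hY1 : ∀ j, comp S.dec j e = 0 → ∀ y ∈ D j, Par M e y := by
    have hl : ∀ y ∈ D l, Par M e y := fun y hy => by
      obtain ⟨p, hpl, -, W, hW, hval, hWe⟩ := hspare l hel
      exact S.par_block_of_comp he hpl (hperp hel) hW hval hWe hw hwl hy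
    intro j hj y hy
    by_cases hjl : j = l
    · exact hl y (hjl ▸ hy)
    obtain ⟨p, hpl, hpj, W, hW, hval, hWe⟩ := hspare j hj
    obtain ⟨g, hg, hmap, hfix, -⟩ := S.exists_swap (Ne.symm hjl) hpl hpj hW hval
    obtain ⟨x, hx, rfl⟩ : y ∈ (D l).map (g.1 : V →ₗ[F] V) := hmap.symm ▸ hy
    exact par_map (hl x hx) hg (hfix e hel hj hWe)
  have hY : ∀ y, (∀ i, comp S.dec i e ≠ 0 → comp S.dec i y = 0) → Par M e y := by
    intro y hy
    rw [← sum_comp S.dec S.nondeg y]
    refine S.par_sum he _ _ fun i _ => ?_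
    by_cases hi : comp S.dec i e = 0
    · exact hY1 i hi _ (comp_mem S.dec i y)
    · rw [hy i hi]; exact par_zero he
  -- a non-degenerate space outside the support, with spare reflections at each of its vectors
  obtain ⟨U, hU, hUout, hUsing, hUspare⟩ : ∃ U : Submodule F V, NdSub Q U ∧
      (∀ y ∈ U, ∀ i, comp S.dec i e ≠ 0 → comp S.dec i y = 0) ∧ (∃ u ∈ U, u ≠ 0 ∧ Q u = 0) ∧
      ∀ u ∈ U, u ≠ 0 → ∃ p, comp S.dec p e = 0 ∧ ∃ W : Submodule F V, W ≤ D p ∧
        (∀ c : F, ∃ a ∈ W, Q a = c) ∧ ∀ x ∈ W, polar Q x u = 0 := by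
    rcases hS with h | ⟨⟨i, hi⟩, hk⟩ | ⟨h, hk, -⟩
    rotate_left 2
    · obtain ⟨l', hl', hll⟩ := S.spare_one _ h l
      refine ⟨D l, S.dec.nd l, fun y hy j hj => comp_other S.dec (fun h => hj (by rw [h]; exact hel)) hy,
        S.exists_sing hk.ge, fun u hu _ => ⟨l', by by_contra hne; exact hl' (S.mem_supp.2 hne), D l', le_rfl,
          S.values_block l', fun x hx => S.dec.orth l' l hll x hx u hu⟩⟩
    · obtain ⟨l', hl', hll, -⟩ := S.spare _ h l l
      have hel' : comp S.dec l' e = 0 := by by_contra hne; exact hl' (S.mem_supp.2 hne)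
      obtain ⟨p, hp, hpl, hpl'⟩ := S.spare _ h l l'
      have hUc : ∀ y ∈ D l ⊔ D l', ∀ i, i ≠ l → i ≠ l' → comp S.dec i y = 0 := fun y hy i h1 h2 => by
        obtain ⟨a, ha, b, hb, rfl⟩ := Submodule.mem_sup.1 hy
        rw [comp_add, comp_other S.dec h1 ha, comp_other S.dec h2 hb, add_zero]
      refine ⟨D l ⊔ D l', ndSub_of_on fun y hy hy0 => ?_, fun y hy i hie => hUc y hy i (fun h => hie (h ▸ hel))
        (fun h => hie (h ▸ hel')), exists_sing_sub ?_, fun u hu _ => ⟨p, by by_contra hne; exact hp (S.mem_supp.2 hne),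
          D p, le_rfl, S.values_block p, fun x hx => S.orth_of_comp fun i => ?_⟩⟩
      · by_contra! hall
        refine hy0 (eq_zero_of_blocks S.dec S.nondeg fun i z hz => ?_)
        by_cases h1 : i = l
        · subst h1; rw [polar_comm]; exact hall z (Submodule.mem_sup_left hz)
        by_cases h2 : i = l'
        · subst h2; rw [polar_comm]; exact hall z (Submodule.mem_sup_right hz)
        exact (comp_eq_zero S.dec).1 (hUc y hy i h1 h2) z hz
      · have h1 := Submodule.finrank_sup_add_finrank_inf_eq (D l) (D l')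
        have h2 : D l ⊓ D l' = ⊥ := (Submodule.eq_bot_iff _).2 fun x hx => by
          by_contra hne
          exact hll (block_unique S.dec hx.1 hx.2 hne).symm
        rw [h2, finrank_bot, S.dec.dim, S.dec.dim] at h1
        have := S.two_le
        omega
      · by_cases hip : i = p
        · exact Or.inr (hUc u hu i (hip ▸ hpl) (hip ▸ hpl'))
        · exact Or.inl (comp_other S.dec hip hx)
    · refine ⟨D l, S.dec.nd l, fun y hy j hj => comp_other S.dec (fun h => hj (by rw [h]; exact hel)) hy,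
        S.exists_sing (by omega), fun u hu _ => ⟨l, hel, D l ⊓ qperp Q (F ∙ u), inf_le_left,
          S.values_perp hu (Or.inl hk), fun x hx => by
            rw [polar_comm]; exact hx.2 u (Submodule.mem_span_singleton_self u)⟩⟩
  have hUe : ∀ u ∈ U, polar Q u e = 0 := fun u hu => S.orth_of_comp fun i => by
    by_cases h : comp S.dec i e = 0
    · exact Or.inr h
    · exact Or.inl (hUout u hu i h)
  -- every singular vector of `U` takes the blocks of the support as parameters
  have hUS : ∀ u ∈ U, Q u = 0 → u ≠ 0 → ∀ i, comp S.dec i e ≠ 0 → ∀ x ∈ D i, Par M u x := by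
    intro u hu hQu hu0 i hi x hx
    have hseed : ∀ a : F, Par M u (a • e) := fun a => by
      by_cases ha : a = 0
      · rw [ha, zero_smul]; exact par_zero hQu
      refine ⟨by rw [polar_smul_r', hUe u hu, mul_zero], fun g hg => ?_⟩
      have h1 := (hg.swap (by rw [quad_smul', he, mul_zero])).of_smul ha
      exact (hY (a • -u) fun j hj => by
        rw [comp_smul, comp_neg, hUout u hu j hj, neg_zero, smul_zero]).2 g h1
    obtain ⟨p, hp, W, hW, hval, hWu⟩ := hUspare u hu hu0
    have hpi : p ≠ i := fun h => hi (h ▸ hp)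
    have hWe : ∀ y ∈ W, polar Q y e = 0 := fun y hy => hperp hp y (hW hy)
    have hiu : ∀ y ∈ D i, polar Q y u = 0 := (comp_eq_zero S.dec).1 (hUout u hu i hi)
    obtain ⟨y, hy, hye, hQy⟩ := S.exists_ns_nonperp (comp_mem S.dec i e) hi
    rw [polar_comp S.dec hy] at hye
    obtain ⟨s, hsΩ, hsfix, hsv⟩ := S.corr hW hval (refl Q y)
    have hm : refl Q y * s ∈ M := S.mem_of_fix hsΩ ((fixBlocks D).mul_mem (refl_mem_fixBlocks S.dec hy) hsfix)
    have hmu : (refl Q y * s).1 u = u := by
      show (refl Q y).1 (s.1 u) = u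
      rw [hsv u hWu, refl_fix Q (hiu y hy)]
    refine S.par_block hQu hpi hiu hW hval hWu hy (fun h => hQy (by rw [h, QuadraticMap.map_zero])) (fun a => ?_) hx
    have h1 := S.par_sub hQu (hseed (a * Q y)) (par_map (hseed (a * Q y)) hm hmu)
    have e1 : (refl Q y * s).1 ((a * Q y) • e) = (a * Q y) • e - a • y := by
      show (refl Q y).1 (s.1 _) = _
      rw [map_smul, hsv e hWe, map_smul, refl_apply, hye, smul_sub, smul_smul]
      congr 2
      field_simp
    rw [e1, sub_sub_cancel] at h1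
    exact h1
  obtain ⟨u, hu, hu0, hQu⟩ := hUsing
  -- every parameter
  have haxe : AxIn M e := by
    intro v g hg
    set v₁ := ∑ i ∈ supp S e, comp S.dec i v with hv₁
    have hv₁c : ∀ i, comp S.dec i e ≠ 0 → comp S.dec i (v - v₁) = 0 := fun i hi => by
      refine (comp_eq_zero S.dec).2 fun y hy => ?_
      rw [polar_sub_right, hv₁, show polar Q y (∑ j ∈ supp S e, comp S.dec j v) =
        ∑ j ∈ supp S e, polar Q y (comp S.dec j v) from map_sum (QuadraticMap.polarBilin Q y) _ _,
        Finset.sum_eq_single i (fun j _ hj => S.dec.orth i j (Ne.symm hj) y hy _ (comp_mem S.dec j v))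
          (fun h => absurd (S.mem_supp.2 hi) h), polar_comp S.dec hy, sub_self]
    have hv₁ev : polar Q e v₁ = 0 := by
      have h1 : polar Q e (v - v₁) = 0 := S.orth_of_comp fun i => by
        by_cases h : comp S.dec i e = 0
        · exact Or.inl h
        · exact Or.inr (hv₁c i h)
      rw [polar_sub_right, hg.2.1] at h1
      linear_combination -h1
    have hPu : Par M u v₁ := S.par_sum hQu _ _ fun i hi => hUS u hu hQu hu0 i (S.mem_supp.1 hi) _ (comp_mem S.dec i v)
    obtain ⟨y, hy, hyu⟩ : ∃ y ∈ U, polar Q u y = 1 := by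
      obtain ⟨z, hz, hzu⟩ : ∃ z ∈ U, polar Q u z ≠ 0 := by
        by_contra! hh
        exact hu0 (ndSub_eq_zero hU hu fun z hz => (polar_comm _ _ _).trans (hh z hz))
      exact ⟨(polar Q u z)⁻¹ • z, U.smul_mem _ hz, by rw [polar_smul_r', inv_mul_cancel₀ hzu]⟩
    obtain ⟨s, hs⟩ := exists_isSiegel S.nondeg hQu hPu.1
    have hse : s.1 e = e := hs.fix (hUe u hu) (by rw [polar_comm]; exact hv₁ev)
    have h1 := par_map (hY y (hUout y hy)) (hPu.2 s hs) hse
    rw [hs.2.2, hyu, one_smul] at h1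
    have hyv : polar Q v₁ y = 0 := S.orth_of_comp fun i => by
      by_cases h : comp S.dec i e = 0
      · refine Or.inl ((comp_eq_zero S.dec).2 fun z hz => ?_)
        rw [hv₁, show polar Q z (∑ j ∈ supp S e, comp S.dec j v) =
          ∑ j ∈ supp S e, polar Q z (comp S.dec j v) from map_sum (QuadraticMap.polarBilin Q z) _ _]
        exact Finset.sum_eq_zero fun j hj =>
          S.dec.orth i j (fun h' => S.mem_supp.1 hj (h' ▸ h)) z hz _ (comp_mem S.dec j v)
      · exact Or.inr (hUout y hy i h)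
    have h2 := S.par_sub he (S.par_sub he h1 (hY y (hUout y hy)))
      (hY ((-(polar Q v₁ y) - Q v₁ * 1) • u) fun i hi => by rw [comp_smul, hUout u hu i hi, smul_zero])
    rw [show y + v₁ + (-(polar Q v₁ y) - Q v₁ * 1) • u - y - (-(polar Q v₁ y) - Q v₁ * 1) • u = v₁ by abel] at h2
    have h3 := S.par_add he h2 (hY (v - v₁) hv₁c)
    rw [add_sub_cancel] at h3
    exact h3.2 g hg
  -- a second axis
  obtain ⟨u', hu', hQu', hu'u⟩ := exists_singular_polar S.nondeg hU hu hQu hu0 hu hu0
  have hu'0 : u' ≠ 0 := fun h => hu'u (by rw [h, polar_zero_left])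
  obtain ⟨i, hi⟩ : ∃ i, comp S.dec i e ≠ 0 := by
    by_contra! hh
    exact he0 (ext_comp S.dec S.nondeg fun i => by rw [hh i, comp_zero])
  obtain ⟨x, hx, hxe⟩ := S.ne_zero_of_comp (comp_mem S.dec i e) hi
  rw [polar_comp S.dec hx] at hxe
  have hPx := hUS u hu hQu hu0 i hi x hx
  have hPx' := hUS u' hu' hQu' hu'0 i hi x hx
  obtain ⟨g₁, hg₁⟩ := exists_isSiegel S.nondeg hQu hPx.1
  obtain ⟨g₂, hg₂⟩ := exists_isSiegel S.nondeg hQu' hPx'.1
  refine S.axes_top he (by rw [apply_quad, apply_quad]; exact he) ?_ haxe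
    ((haxe.map (hPx.2 g₁ hg₁)).map (hPx'.2 g₂ hg₂))
  rw [hg₂.2.2, hg₁.2.2, hUe u hu, hxe]
  simp only [polar_add_right, polar_smul_r', polar_comm _ e x, hxe, polar_comm _ e u, hUe u hu, polar_comm _ e u',
    hUe u' hu', polar_self', he, mul_zero, add_zero, zero_add, zero_mul, sub_zero, mul_one]
  simpa using hu'u

/-- A fixed singular vector of a block whose hyperplane leaves the block. -/
theorem Setup.top_of_fixed {m : orthGroup Q} (hm : m ∈ M) {l : Fin t} {r x : V} (hr : r ∈ D l) (hr0 : r ≠ 0)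
    (hQr : Q r = 0) (hmr : m.1 r = r) (hx : x ∈ D l) (hrx : polar Q r x = 0) (hmx : m.1 x ∉ D l) :
    commutator (orthGroup Q) ≤ M := by
  obtain ⟨j, hj, hjx⟩ := exists_comp_ne S.dec S.nondeg hmx
  refine S.top hQr hr0 (w := m.1 x) ⟨by conv_lhs => rw [← hmr, polar_isom, hrx], ?_⟩
    (comp_other S.dec hj hr) hjx ?_
  · have := SiegelIn.conj (S.siegelIn_block hr hx) hm
    rwa [hmr] at this
  · rcases Nat.lt_or_ge k 4 with hk | hk
    · have := S.card_supp_le hr
      have := Setup.blocks_three (S := S) (show k ≤ 3 by omega)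
      exact Or.inl (by omega)
    · exact Or.inr (Or.inl ⟨⟨l, hr⟩, hk⟩)

/-- A fixed singular vector of a plane block which is moved: commute with a torus. -/
theorem Setup.top_of_fixed_plane (hk : k = 2) {m : orthGroup Q} (hm : m ∈ M) {l : Fin t} {r x : V} (hr : r ∈ D l)
    (hr0 : r ≠ 0) (hQr : Q r = 0) (hmr : m.1 r = r) (hx : x ∈ D l) (hmx : m.1 x ∉ D l) :
    commutator (orthGroup Q) ≤ M := by
  classical
  obtain ⟨s, hs, hQs, hsr⟩ := exists_singular_polar S.nondeg (S.dec.nd l) hr hQr hr0 hr hr0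
  obtain ⟨f, hf, hQf, hfr⟩ : ∃ f ∈ D l, Q f = 0 ∧ polar Q f r = 1 :=
    ⟨(polar Q s r)⁻¹ • s, (D l).smul_mem _ hs, by rw [quad_smul', hQs, mul_zero],
      by rw [polar_smul_l', inv_mul_cancel₀ hsr]⟩
  have hrf : polar Q r f = 1 := by rw [polar_comm]; exact hfr
  have hspan : ∀ v ∈ D l, v = polar Q f v • r + polar Q r v • f := by
    intro v hv
    set z := v - (polar Q f v • r + polar Q r v • f)
    have hz : z ∈ D l := (D l).sub_mem hv ((D l).add_mem ((D l).smul_mem _ hr) ((D l).smul_mem _ hf))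
    have hli : LinearIndependent F ![r, f] := (LinearIndependent.pair_iff' hr0).2 fun a ha => by
      have := hrf
      rw [← ha, polar_smul_r', polar_self', hQr] at this
      simp at this
    have hsp : D l ≤ Submodule.span F {r, f} := by
      refine le_of_eq (Submodule.eq_of_le_of_finrank_eq ?_ ?_).symm
      · exact Submodule.span_le.2 (by simp [Set.insert_subset_iff, hr, hf])
      · rw [S.dec.dim, hk, show ({r, f} : Set V) = Set.range ![r, f] by simp [Matrix.range_cons, Set.pair_comm],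
          finrank_span_eq_card hli]
        simp
    refine sub_eq_zero.1 (ndSub_eq_zero (S.dec.nd l) hz fun y hy => ?_)
    show polar Q y z = 0
    obtain ⟨a, b, rfl⟩ := Submodule.mem_span_pair.1 (hsp hy)
    simp only [z, polar_add_left, polar_smul_l', polar_sub_right, polar_add_right, polar_smul_r', polar_self', hQr,
      hQf, hrf, hfr]
    ring
  have hmf : m.1 f ∉ D l := fun h => hmx (by
    rw [hspan x hx, map_add, map_smul, map_smul, hmr]
    exact (D l).add_mem ((D l).smul_mem _ hr) ((D l).smul_mem _ h))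
  have hq : 7 ≤ Fintype.card F := (S.small_two hk).2 ⟨l, r, hr, hr0, hQr⟩
  -- a square different from `0` and `1`
  obtain ⟨a, ha⟩ : ∃ a : F, a ∉ ({0, 1, -1} : Finset F) := by
    by_contra! hh
    have h6 := Finset.card_le_card (show Finset.univ ⊆ ({0, 1, -1} : Finset F) from fun x _ => hh x)
    have h7 := Finset.card_le_three (a := (0 : F)) (b := 1) (c := -1)
    rw [Finset.card_univ] at h6
    omega
  simp only [Finset.mem_insert, Finset.mem_singleton, not_or] at ha
  obtain ⟨ha0, ha1, ha2⟩ := ha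
  set c := a * a
  have hc0 : c ≠ 0 := mul_ne_zero ha0 ha0
  have hc1 : c - 1 ≠ 0 := by
    rw [show c - 1 = (a - 1) * (a + 1) by simp only [c]; ring]
    exact mul_ne_zero (sub_ne_zero.2 ha1) fun h => ha2 (by linear_combination h)
  set τ := torus Q r f c
  have hq1 : Q (r + f) = 1 := by rw [quad_add', hQr, hQf, hrf]; ring
  have hqc : Q (r + c • f) = c := by
    rw [quad_add', show Q (c • f) = c * c * Q f from quad_smul' .., polar_smul_r', hQr, hQf, hrf]; ring
  have hτM : τ ∈ M := S.mem_of_fix (refl_pair_mem S.nondeg S.good S.rank (by rw [hq1]; exact one_ne_zero)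
    (by rw [hqc]; exact hc0) (by rw [hq1, hqc, one_mul]; exact ⟨a, rfl⟩))
    ((fixBlocks D).mul_mem (refl_mem_fixBlocks S.dec ((D l).add_mem hr hf))
      (refl_mem_fixBlocks S.dec ((D l).add_mem hr ((D l).smul_mem _ hf))))
  obtain ⟨hτr, hτf⟩ : τ.1 r = c • r ∧ τ.1 f = c⁻¹ • f := torus_pair Q hQr hQf hrf hc0
  set μ := polar Q f (m⁻¹.1 f)
  have hinv : ∀ v, m⁻¹.1 (m.1 v) = v := fun v => m.1.symm_apply_apply v
  have hmir : m⁻¹.1 r = r := by conv_lhs => rw [← hmr, hinv]
  have hpr : ∀ v, polar Q r (m.1 v) = polar Q r v := fun v => by conv_lhs => rw [← hmr, polar_isom]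
  have hpr' : ∀ v, polar Q r (m⁻¹.1 v) = polar Q r v := fun v => by conv_lhs => rw [← hmir, polar_isom]
  set w₀ := m⁻¹.1 f - f - μ • r with hw₀
  have hw₀r : polar Q r w₀ = 0 := by
    simp only [hw₀, polar_sub_right, polar_smul_r', hpr', hrf, polar_self', hQr]; ring
  have hw₀f : polar Q f w₀ = 0 := by
    simp only [hw₀, μ, polar_sub_right, polar_smul_r', polar_self', hQf, hfr]; ring
  have hμ : Q w₀ = -μ := by
    have h1 : Q (m⁻¹.1 f) = 0 := (apply_quad m⁻¹ f).trans hQf
    rw [show m⁻¹.1 f = f + (w₀ + μ • r) by simp only [hw₀]; abel, quad_add', quad_add', quad_smul', polar_smul_r',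
      polar_add_right, polar_smul_r', hQf, hQr, hw₀f, hfr, polar_comm _ w₀ r, hw₀r] at h1
    linear_combination h1
  set w := (c - 1) • m.1 w₀
  have hwr : polar Q r w = 0 := by rw [polar_smul_r', hpr, hw₀r, mul_zero]
  obtain ⟨g, hg⟩ := exists_isSiegel S.nondeg hQr hwr
  have hgeq : g = m * τ * m⁻¹ * τ⁻¹ := by
    refine Subtype.ext (LinearEquiv.ext fun v => ?_)
    show g.1 v = m.1 (τ.1 (m⁻¹.1 (τ⁻¹.1 v)))
    set v' := v - (polar Q f v • r + polar Q r v • f) with hv'
    have hv : v = polar Q f v • r + polar Q r v • f + v' := by rw [hv']; abel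
    have hv'r : polar Q r v' = 0 := by
      simp only [hv', polar_sub_right, polar_add_right, polar_smul_r', polar_self', hQr, hrf]; ring
    have hv'f : polar Q f v' = 0 := by
      simp only [hv', polar_sub_right, polar_add_right, polar_smul_r', polar_self', hQf, hfr]; ring
    have hτi : ∀ u, τ.1 u = u → τ⁻¹.1 u = u := fun u h => by
      conv_lhs => rw [← h]
      exact τ.1.symm_apply_apply u
    have er : τ⁻¹.1 r = c⁻¹ • r := by
      have h := τ.1.symm_apply_apply r
      change τ⁻¹.1 (τ.1 r) = r at h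
      rw [hτr, map_smul] at h
      conv_rhs => rw [← h, smul_smul, inv_mul_cancel₀ hc0, one_smul]
    have ef : τ⁻¹.1 f = c • f := by
      have h := τ.1.symm_apply_apply f
      change τ⁻¹.1 (τ.1 f) = f at h
      rw [hτf, map_smul] at h
      conv_rhs => rw [← h, smul_smul, mul_inv_cancel₀ hc0, one_smul]
    have efix : ∀ u, polar Q r u = 0 → polar Q f u = 0 → τ.1 u = u := fun u h1 h2 => torus_fix Q c h1 h2
    set lam := polar Q f (m⁻¹.1 v')
    have ev' : τ.1 (m⁻¹.1 v') = m⁻¹.1 v' + ((c - 1) * lam) • r := by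
      have h1 : τ.1 (m⁻¹.1 v' - lam • r) = m⁻¹.1 v' - lam • r := efix _
        (by rw [polar_sub_right, polar_smul_r', hpr', hv'r, polar_self', hQr]; ring)
        (by rw [polar_sub_right, polar_smul_r', hfr, mul_one, sub_self])
      rw [map_sub, map_smul, hτr, sub_eq_iff_eq_add] at h1
      rw [h1]; module
    have emf : τ.1 (m⁻¹.1 f) = c⁻¹ • f + w₀ + (μ * c) • r := by
      rw [show m⁻¹.1 f = f + (w₀ + μ • r) by simp only [hw₀]; abel, map_add, map_add, map_smul, hτf, hτr,
        efix w₀ hw₀r hw₀f, smul_smul]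
      abel
    conv_rhs => rw [hv]
    simp only [map_add, map_smul, er, ef, hτi v' (efix v' hv'r hv'f)]
    simp only [map_add, map_smul, hmir, hτr, ev', emf, hmr, show m.1 (m⁻¹.1 v') = v' from m.1.apply_symm_apply v']
    rw [show m.1 f = f - m.1 w₀ - μ • r from by
      have h : m.1 (m⁻¹.1 f) = f := m.1.apply_symm_apply f
      rw [show m⁻¹.1 f = f + (w₀ + μ • r) by simp only [hw₀]; abel, map_add, map_add, map_smul, hmr] at h
      conv_rhs => rw [← h]
      abel, hg.2.2 v]
    have hwv : polar Q w v = (c - 1) * (polar Q w₀ (m⁻¹.1 v)) := by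
      rw [polar_smul_l', ← polar_isom m w₀, show m.1 (m⁻¹.1 v) = v from m.1.apply_symm_apply v]
    have hw₀v : polar Q w₀ (m⁻¹.1 v) = -(2 * μ) * polar Q r v - lam := by
      rw [hv, map_add, map_add, map_smul, map_smul, hmir,
        show m⁻¹.1 f = f + (w₀ + μ • r) by simp only [hw₀]; abel]
      simp only [polar_add_right, polar_smul_r', polar_comm _ w₀ r, polar_comm _ w₀ f, hw₀r, hw₀f, polar_self', hμ,
        hv'r, hQr, hrf]
      have : polar Q w₀ (m⁻¹.1 v') = -lam := by
        simp only [hw₀, polar_sub_left, polar_smul_l', polar_isom, hpr', hv'r, hv'f, lam]; ring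
      rw [this]
      ring
    rw [hwv, hw₀v, show Q w = (c - 1) * (c - 1) * -μ by rw [quad_smul', apply_quad, hμ]]
    simp only [w]
    conv_lhs => arg 1; arg 1; rw [hv]
    match_scalars <;> field_simp <;> ring
  have hgM : g ∈ M := hgeq ▸ M.mul_mem (M.mul_mem (M.mul_mem hm hτM) (M.inv_mem hm)) (M.inv_mem hτM)
  have hwout : w ∉ D l := fun h => hmf (by
    have h1 : m.1 w₀ ∈ D l := ((D l).smul_mem_iff hc1).1 h
    have h2 : m.1 w₀ = f - m.1 f - μ • r := by
      simp only [hw₀, map_sub, map_smul, hmr, show m.1 (m⁻¹.1 f) = f from m.1.apply_symm_apply f]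
    rw [h2] at h1
    have h3 := (D l).sub_mem ((D l).sub_mem hf ((D l).smul_mem μ hr)) h1
    convert h3 using 1
    abel)
  obtain ⟨j, hj, hjw⟩ := exists_comp_ne S.dec S.nondeg hwout
  refine S.top hQr hr0 (w := w) ⟨hwr, fun g' hg' => hg'.unique hg ▸ hgM⟩ (comp_other S.dec hj hr) hjw (Or.inl ?_)
  have := S.card_supp_le hr
  have := Setup.blocks_three (S := S) (show k ≤ 3 by omega)
  omega

end CfsgLib.Classical.DecompOrth
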