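import Cfsg.Agent.Lib.Classical.DecompOrth.Basic

/-!
# Values of the form on affine lines of a block
-/

set_option autoImplicit false
set_option linter.unusedSectionVars false

open Module QuadraticMap CfsgLib.Orth Finset

namespace CfsgLib.Classical.DecompOrth

section Field

variable {F : Type*} [Field F] [Fintype F] [DecidableEq F]

theorem mem_all_of_small {R : Subring F} {A : Finset F} (hA : ∀ a ∈ A, a ∈ R)
    (h : Fintype.card F < A.card * A.card) (x : F) : x ∈ R := by
  by_contra hx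
  have hinj : Set.InjOn (fun p : F × F => p.1 + p.2 * x) ↑(A ×ˢ A) := by
    rintro ⟨r, s⟩ hp ⟨r', s'⟩ hp' e
    simp only [coe_product, Set.mem_prod, mem_coe] at hp hp'
    change r + s * x = r' + s' * x at e
    by_cases hs : s = s'
    · subst hs
      simp only [add_left_inj] at e
      rw [e]
    exfalso
    refine hx ?_
    have hd : s' - s ≠ 0 := sub_ne_zero.2 (Ne.symm hs)
    have hinv : (s' - s)⁻¹ ∈ R := by
      have hpow : (s' - s) ^ (Fintype.card F - 2) = (s' - s)⁻¹ := by
        refine eq_inv_of_mul_eq_one_left ?_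
        have h2 := Fintype.one_lt_card (α := F)
        rw [← pow_succ, show Fintype.card F - 2 + 1 = Fintype.card F - 1 by omega,
          FiniteField.pow_card_sub_one_eq_one _ hd]
      rw [← hpow]
      exact R.pow_mem (R.sub_mem (hA _ hp'.2) (hA _ hp.2)) _
    rw [show x = (s' - s)⁻¹ * (r - r') by field_simp; linear_combination -e]
    exact R.mul_mem hinv (R.sub_mem (hA _ hp.1) (hA _ hp'.1))
  have h1 := Finset.card_le_univ ((A ×ˢ A).image fun p : F × F => p.1 + p.2 * x)
  rw [card_image_of_injOn hinj, card_product] at h1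
  omega

theorem card_image_quad {α β e : F} (he : e ≠ 0) :
    Fintype.card F ≤ 2 * (univ.image fun x : F => α + β * x + e * (x * x)).card := by
  refine card_le_mul_card_image (f := fun x : F => α + β * x + e * (x * x)) univ 2 fun a ha => ?_
  obtain ⟨x₀, -, hx₀⟩ := mem_image.1 ha
  refine le_trans (card_le_card fun x hx => ?_) (card_le_two (a := x₀) (b := -x₀ - β / e))
  simp only [mem_filter] at hx
  simp only [mem_insert, mem_singleton]
  have h : (x - x₀) * (β + e * (x + x₀)) = 0 := by linear_combination hx.2 - hx₀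
  rcases mul_eq_zero.1 h with h | h
  · exact Or.inl (sub_eq_zero.1 h)
  · right; field_simp; linear_combination h

theorem exists_common_neg {A B : Finset F} (hA : (0 : F) ∉ A) (hB : (0 : F) ∉ B)
    (h : Fintype.card F ≤ A.card + B.card) : ∃ a ∈ A, -a ∈ B := by
  by_contra! hall
  have hd : Disjoint A (B.image fun b => -b) := disjoint_left.2 fun a ha hb => by
    obtain ⟨b, hb, rfl⟩ := mem_image.1 hb
    exact hall _ ha (by rwa [neg_neg])
  have h1 : A ∪ B.image (fun b => -b) ⊆ univ.erase 0 := fun a ha => by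
    refine mem_erase.2 ⟨fun h0 => ?_, mem_univ _⟩
    rcases mem_union.1 ha with ha | ha
    · exact hA (h0 ▸ ha)
    · obtain ⟨b, hb, rfl⟩ := mem_image.1 ha
      exact hB (neg_eq_zero.1 h0 ▸ hb)
  have h2 := card_le_card h1
  rw [card_union_of_disjoint hd, card_image_of_injective _ neg_injective, card_erase_of_mem (mem_univ _),
    card_univ] at h2
  have := Fintype.card_pos (α := F)
  omega

/-- In characteristic two the two additive images meet outside zero. -/
theorem exists_common_two (h2 : (2 : F) = 0) (hq : 5 ≤ Fintype.card F) {a b : F} (ha : a ≠ 0) (hb : b ≠ 0) :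
    ∃ x y : F, x + a * (x * x) = y + b * (y * y) ∧ x + a * (x * x) ≠ 0 := by
  set A := univ.image fun x : F => (0 : F) + 1 * x + a * (x * x)
  set B := univ.image fun x : F => (0 : F) + 1 * x + b * (x * x)
  have hA := card_image_quad (α := 0) (β := 1) ha
  have hB := card_image_quad (α := 0) (β := 1) hb
  have hlt : (univ : Finset F).card < (A ×ˢ B).card := by
    rw [card_product, card_univ]
    by_contra! hle
    have := Nat.mul_le_mul hA hB
    nlinarith
  obtain ⟨⟨p, p'⟩, hp, ⟨r, r'⟩, hr, hne, e⟩ :=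
    exists_ne_map_eq_of_card_lt_of_maps_to hlt (f := fun z : F × F => z.1 + z.2) fun _ _ => mem_univ _
  simp only [A, B, mem_product, mem_image, mem_univ, true_and, zero_add, one_mul] at hp hr
  obtain ⟨⟨x₁, rfl⟩, y₁, rfl⟩ := hp
  obtain ⟨⟨x₂, rfl⟩, y₂, rfl⟩ := hr
  refine ⟨x₁ + x₂, y₁ + y₂, ?_, fun h0 => hne ?_⟩
  · linear_combination e + (x₂ + a * x₂ * x₂ + a * x₁ * x₂ - y₁ * b * y₂ - y₁ - b * y₁ * y₁) * h2
  have h0' : x₁ + a * (x₁ * x₁) = x₂ + a * (x₂ * x₂) := by
    linear_combination h0 - (x₂ + a * x₂ * x₂ + a * x₁ * x₂) * h2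
  refine Prod.ext h0' ?_
  change y₁ + b * (y₁ * y₁) = y₂ + b * (y₂ * y₂)
  linear_combination e - h0'

/-- If two value sets of the shape `α + e x²` are opposite only at zero then `α² + γ² = 0`. -/
theorem exists_common_odd (h2 : (2 : F) ≠ 0) (hq : 7 ≤ Fintype.card F) {α e γ f : F} (he : e ≠ 0) (hf : f ≠ 0)
    (h : α * α + γ * γ ≠ 0) : ∃ x y : F, α + e * (x * x) + (γ + f * (y * y)) = 0 ∧ α + e * (x * x) ≠ 0 := by
  by_contra! hall
  set Sq : Finset F := univ.image fun x : F => x * x
  have hodd : Fintype.card F % 2 = 1 := FiniteField.odd_card_of_char_ne_two fun h' => h2 (by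
    have := ringChar.Nat.cast_ringChar (R := F)
    rw [h'] at this
    exact_mod_cast this)
  have hSq : Fintype.card F + 1 ≤ 2 * Sq.card := by
    have h1 := card_image_quad (α := (0 : F)) (β := 0) (one_ne_zero (α := F))
    simp only [zero_mul, add_zero, zero_add, one_mul] at h1
    change _ ≤ 2 * Sq.card at h1
    omega
  set A := Sq.image fun s => α + e * s with hAdef
  set B := Sq.image fun s => -(γ + f * s) with hBdef
  have hinjA : Function.Injective fun s : F => α + e * s := fun s s' h' => by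
    simpa [he] using h'
  have hinjB : Function.Injective fun s : F => -(γ + f * s) := fun s s' h' => by
    simpa [hf] using h'
  have hAB : A ∩ B ⊆ {0} := fun v hv => by
    obtain ⟨h1, h3⟩ := mem_inter.1 hv
    obtain ⟨s, hs, rfl⟩ := mem_image.1 h1
    obtain ⟨s', hs', e'⟩ := mem_image.1 h3
    obtain ⟨x, -, rfl⟩ := mem_image.1 hs
    obtain ⟨y, -, rfl⟩ := mem_image.1 hs'
    exact mem_singleton.2 (hall x y (by linear_combination -e'))
  have hcard : Fintype.card F + 1 ≤ A.card + B.card := by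
    rw [card_image_of_injective _ hinjA, card_image_of_injective _ hinjB]; omega
  have hu := card_union_add_card_inter A B
  have hun := card_le_univ (A ∪ B)
  have hint := card_le_card hAB
  rw [card_singleton] at hint
  have huniv : A ∪ B = univ := eq_univ_of_card _ (by omega)
  have hkey : ∑ v ∈ A, v * v + ∑ v ∈ B, v * v = ∑ v : F, v * v := by
    rw [← sum_union_inter, huniv, sum_eq_zero (s := A ∩ B) fun v hv => by rw [mem_singleton.1 (hAB hv), mul_zero],
      add_zero]
  obtain ⟨μ, hμ0, hμ⟩ : ∃ μ : F, μ ≠ 0 ∧ μ ^ 4 ≠ 1 := by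
    by_contra! hh
    have h1 : (univ.erase (0 : F)) ⊆ (Polynomial.nthRootsFinset 4 (1 : F)) := fun x hx => by
      rw [Polynomial.mem_nthRootsFinset (by norm_num)]
      exact hh x (mem_erase.1 hx).1
    have h3 : (Polynomial.nthRootsFinset 4 (1 : F)).card ≤ 4 := by
      rw [Polynomial.nthRootsFinset_def]
      exact (Multiset.toFinset_card_le _).trans (Polynomial.card_nthRoots 4 1)
    have h4 := card_le_card h1
    rw [card_erase_of_mem (mem_univ _), card_univ] at h4
    omega
  have hperm : ∀ φ : F → F, ∑ s ∈ Sq, φ (μ * μ * s) = ∑ s ∈ Sq, φ s := fun φ => by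
    refine sum_bij (fun s _ => μ * μ * s) (fun s hs => ?_) (fun s _ s' _ h' => by simpa [hμ0] using h')
      (fun s hs => ?_) fun s _ => rfl
    · obtain ⟨x, -, rfl⟩ := mem_image.1 hs
      exact mem_image.2 ⟨μ * x, mem_univ _, by ring⟩
    · obtain ⟨x, -, rfl⟩ := mem_image.1 hs
      exact ⟨(μ⁻¹ * x) * (μ⁻¹ * x), mem_image.2 ⟨μ⁻¹ * x, mem_univ _, rfl⟩, by field_simp⟩
  have hS1 : ∑ s ∈ Sq, s = 0 := by
    have h1 := hperm id
    simp only [id_eq] at h1
    rw [← mul_sum] at h1
    have h3 : μ * μ ≠ 1 := fun h' => hμ (by linear_combination (μ * μ + 1) * h')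
    exact (mul_eq_zero.1 (show (μ * μ - 1) * ∑ s ∈ Sq, s = 0 by linear_combination h1)).resolve_left
      (sub_ne_zero.2 h3)
  have hS2 : ∑ s ∈ Sq, s * s = 0 := by
    have h1 := hperm fun s => s * s
    rw [show ∑ s ∈ Sq, μ * μ * s * (μ * μ * s) = μ ^ 4 * ∑ s ∈ Sq, s * s by
      rw [mul_sum]; exact sum_congr rfl fun s _ => by ring] at h1
    exact (mul_eq_zero.1 (show (μ ^ 4 - 1) * ∑ s ∈ Sq, s * s = 0 by linear_combination h1)).resolve_left
      (sub_ne_zero.2 hμ)
  have hall2 : ∑ v : F, v * v = 0 := by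
    have := FiniteField.sum_pow_lt_card_sub_one (K := F) 2 (by omega)
    simpa [pow_two] using this
  have hval : ∀ (a b : F), ∑ s ∈ Sq, (a + b * s) * (a + b * s) = (Sq.card : F) * (a * a) := fun a b => by
    rw [show ∑ s ∈ Sq, (a + b * s) * (a + b * s) =
      ∑ s ∈ Sq, (a * a + 2 * a * b * s + b * b * (s * s)) from sum_congr rfl fun s _ => by ring,
      sum_add_distrib, sum_add_distrib, sum_const, nsmul_eq_mul, ← mul_sum Sq (fun s => s) (2 * a * b),
      ← mul_sum Sq (fun s => s * s) (b * b), hS1, hS2]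
    ring
  rw [hall2, sum_image fun s _ s' _ h' => hinjA h', sum_image fun s _ s' _ h' => hinjB h', hval] at hkey
  simp only [neg_mul_neg] at hkey
  rw [hval, ← mul_add] at hkey
  have h3 : (2 : F) * (Sq.card : F) = 1 := by
    have hc : 2 * Sq.card = Fintype.card F + 1 := by
      have := card_union_add_card_inter A B
      rw [huniv, card_univ, card_image_of_injective _ hinjA, card_image_of_injective _ hinjB] at this
      omega
    have := congrArg (Nat.cast : ℕ → F) hc
    push_cast at this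
    rw [this, FiniteField.cast_card_eq_zero, zero_add]
  refine h (mul_left_cancel₀ (b := α * α + γ * γ) (c := 0) ?_ (hkey.trans (mul_zero _).symm))
  intro h0
  rw [h0, mul_zero] at h3
  exact zero_ne_one h3

end Field

variable {F V : Type*} [Field F] [AddCommGroup V] [Module F V] [FiniteDimensional F V] [Fintype F]
  {Q : QuadraticForm F V} {t k : ℕ} {D : Fin t → Submodule F V} {M : Subgroup (orthGroup Q)}

theorem exists_sing_sub {W : Submodule F V} (h : 3 ≤ finrank F W) : ∃ v ∈ W, v ≠ 0 ∧ Q v = 0 := by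
  by_cases hW : NdSub Q W
  · obtain ⟨v, hv, hv0⟩ := exists_singular hW h
    exact ⟨v, v.2, fun e => hv (Subtype.ext e), hv0⟩
  obtain ⟨x, hx, hx0, hxW⟩ : ∃ x ∈ W, x ≠ 0 ∧ ∀ y ∈ W, polar Q x y = 0 := by
    by_contra! hh
    exact hW (ndSub_of_on hh)
  by_cases hQx : Q x = 0
  · exact ⟨x, hx, hx0, hQx⟩
  have h2 : (2 : F) = 0 := by
    have := hxW x hx
    rw [polar_self', mul_eq_zero] at this
    exact this.resolve_right hQx
  haveI : CharP F 2 := CharTwo.of_one_ne_zero_of_two_eq_zero one_ne_zero h2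
  obtain ⟨y, hy, hyx⟩ : ∃ y ∈ W, y ∉ F ∙ x := by
    by_contra! hh
    have := Submodule.finrank_mono (show W ≤ F ∙ x from hh)
    rw [finrank_span_singleton hx0] at this
    omega
  obtain ⟨s, hs⟩ := FiniteField.isSquare_of_char_two (ringChar.eq F 2) (Q y / Q x)
  refine ⟨y + s • x, W.add_mem hy (W.smul_mem _ hx), fun h0 => hyx ?_, ?_⟩
  · rw [eq_neg_of_add_eq_zero_left h0]
    exact neg_mem (Submodule.smul_mem _ _ (Submodule.mem_span_singleton_self x))
  · rw [quad_add', quad_smul', polar_smul_r', polar_comm _ y x, hxW y hy, ← hs, div_mul_cancel₀ _ hQx]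
    linear_combination Q y * h2

variable (S : Setup M k D)
include S

theorem Setup.ne_zero_of_comp {i : Fin t} {c : V} (_hc : c ∈ D i) (h : c ≠ 0) : ∃ u ∈ D i, polar Q u c = 1 := by
  obtain ⟨v, hv, hvc⟩ : ∃ v ∈ D i, polar Q v c ≠ 0 := by
    by_contra! hh
    exact h (ndSub_eq_zero (S.dec.nd i) _hc fun x hx => hh x hx)
  exact ⟨(polar Q v c)⁻¹ • v, (D i).smul_mem _ hv, by rw [polar_smul_l', inv_mul_cancel₀ hvc]⟩

theorem Setup.exists_sing {i : Fin t} (h : 3 ≤ k) : ∃ e ∈ D i, e ≠ 0 ∧ Q e = 0 :=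
  exists_sing_sub (by rw [S.dec.dim]; exact h)

theorem Setup.iso_transfer {i j : Fin t} (h : ∃ v ∈ D i, v ≠ 0 ∧ Q v = 0) : ∃ v ∈ D j, v ≠ 0 ∧ Q v = 0 := by
  obtain ⟨v, hv, hv0, hQv⟩ := h
  obtain ⟨e, he⟩ := S.dec.isom i j
  exact ⟨e ⟨v, hv⟩, (e _).2, fun h0 => hv0 (congrArg Subtype.val (e.map_eq_zero_iff.1 (Subtype.ext h0))),
    (he _).trans hQv⟩

/-- A singular vector sees every value on its affine hyperplane. -/
theorem Setup.free_singular {i : Fin t} {c : V} (hc : c ∈ D i) (hc0 : c ≠ 0) (hQ : Q c = 0) (τ : F) :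
    ∃ u ∈ D i, polar Q u c = 1 ∧ Q u = τ := by
  obtain ⟨u, hu, huc⟩ := S.ne_zero_of_comp hc hc0
  refine ⟨u + (τ - Q u) • c, (D i).add_mem hu ((D i).smul_mem _ hc), ?_, ?_⟩
  · rw [polar_add_left, polar_smul_l', huc, polar_self', hQ]; ring
  · rw [quad_add', quad_smul', polar_smul_r', huc, hQ]; ring

/-- Some non-singular vector of a block is not orthogonal to a given one. -/
theorem Setup.exists_ns_nonperp {i : Fin t} {c : V} (hc : c ∈ D i) (hc0 : c ≠ 0) :
    ∃ u ∈ D i, polar Q u c = 1 ∧ Q u ≠ 0 := by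
  classical
  by_contra! hall
  obtain ⟨v, hv, hvc⟩ := S.ne_zero_of_comp hc hc0
  have hv0 := hall v hv hvc
  obtain ⟨z, hz, hQz⟩ := S.values_block i 1
  have hz1 : Q z ≠ 0 := by rw [hQz]; exact one_ne_zero
  -- shifts inside the affine hyperplane
  have hker : ∀ w ∈ D i, polar Q w c = 0 → polar Q v w + Q w = 0 := fun w hw hwc => by
    have := hall (v + w) ((D i).add_mem hv hw) (by rw [polar_add_left, hvc, hwc, add_zero])
    rw [quad_add', hv0] at this
    linear_combination this
  have hlin : ∀ w ∈ D i, polar Q w c = 0 → ∀ a : F, (a * a - a) * Q w = 0 := fun w hw hwc a => by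
    have h1 := hker (a • w) ((D i).smul_mem _ hw) (by rw [polar_smul_l', hwc, mul_zero])
    rw [polar_smul_r', quad_smul'] at h1
    linear_combination h1 - a * hker w hw hwc
  by_cases hq : ∃ a : F, a * a - a ≠ 0
  · obtain ⟨a, ha⟩ := hq
    have hW0 : ∀ w ∈ D i, polar Q w c = 0 → Q w = 0 := fun w hw hwc =>
      (mul_eq_zero.1 (hlin w hw hwc a)).resolve_left ha
    have hvw : ∀ w ∈ D i, polar Q w c = 0 → polar Q v w = 0 := fun w hw hwc => by
      have := hker w hw hwc
      rwa [hW0 w hw hwc, add_zero] at this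
    set w := z - polar Q z c • v
    have hwc : polar Q w c = 0 := by simp only [w, polar_sub_left, polar_smul_l', hvc]; ring
    have hw : w ∈ D i := (D i).sub_mem hz ((D i).smul_mem _ hv)
    refine hz1 ?_
    rw [show z = w + polar Q z c • v by simp only [w]; abel, quad_add', quad_smul', polar_smul_r', hW0 w hw hwc, hv0,
      polar_comm (⇑Q) w v, hvw w hw hwc]
    ring
  push Not at hq
  have hF : ∀ a : F, a = 0 ∨ a = 1 := fun a => by
    rcases mul_eq_zero.1 (show a * (a - 1) = 0 by linear_combination hq a) with h | h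
    · exact Or.inl h
    · exact Or.inr (sub_eq_zero.1 h)
  have hcard : Fintype.card F = 2 := by
    rw [← Finset.card_univ, show (Finset.univ : Finset F) = {0, 1} from Finset.eq_univ_of_forall (fun a => by
      simpa using hF a) |>.symm, Finset.card_pair zero_ne_one]
  rcases (show k = 2 ∨ k = 3 ∨ 4 ≤ k by have := S.two_le; omega) with h | h | h
  · have := (S.small_two h).2 ⟨i, v, hv, fun h0 => by rw [h0, polar_zero_left] at hvc; exact zero_ne_one hvc, hv0⟩
    omega
  · have := (S.small_three h).2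
    omega
  · have h2 : (2 : F) = 0 := by
      rcases hF 2 with h' | h'
      · exact h'
      · exact absurd (show (1 : F) = 0 by linear_combination h') one_ne_zero
    -- `Q` is linear on the hyperplane, which is then totally isotropic for the polar form
    set W := D i ⊓ qperp Q (F ∙ c)
    have hWc : ∀ w ∈ W, w ∈ D i ∧ polar Q w c = 0 := fun w hw =>
      ⟨hw.1, by rw [polar_comm]; exact hw.2 c (Submodule.mem_span_singleton_self c)⟩
    obtain ⟨w, hw, hw1⟩ := S.values_perp hc (Or.inl h) 1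
    have hpW : ∀ x ∈ W, ∀ y ∈ W, polar Q x y = 0 := fun x hx y hy => by
      have h1 := hker _ ((D i).add_mem (hWc x hx).1 (hWc y hy).1)
        (by rw [polar_add_left, (hWc x hx).2, (hWc y hy).2, add_zero])
      rw [polar_add_right, quad_add'] at h1
      linear_combination h1 - hker x (hWc x hx).1 (hWc x hx).2 - hker y (hWc y hy).1 (hWc y hy).2
    -- a totally isotropic hyperplane of a non-degenerate space of dimension at least three
    have hle : finrank F W ≤ 1 := by
      let φ : W →ₗ[F] F := (QuadraticMap.polarBilin Q v).comp W.subtype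
      have hinj : Function.Injective φ := by
        rw [injective_iff_map_eq_zero]
        intro x hx
        refine Subtype.ext (ndSub_eq_zero (S.dec.nd i) x.2.1 fun y hy => ?_)
        show polar Q y (x : V) = 0
        have hy' : y - polar Q y c • v ∈ W := ⟨(D i).sub_mem hy ((D i).smul_mem _ hv), fun z' hz' => by
          obtain ⟨s, rfl⟩ := Submodule.mem_span_singleton.1 hz'
          show polar Q (s • c) _ = 0
          rw [polar_smul_l', polar_sub_right, polar_smul_r', polar_comm _ c v, hvc, polar_comm _ c y]; ring⟩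
        have h1 := hpW _ hy' _ x.2
        rw [polar_sub_left, polar_smul_l', show polar Q v (x : V) = 0 from hx, mul_zero, sub_zero] at h1
        exact h1
      have := LinearMap.finrank_le_finrank_of_injective hinj
      rwa [finrank_self] at this
    have h3 := Submodule.finrank_sup_add_finrank_inf_eq (D i) (qperp Q (F ∙ c))
    have h4 := (D i ⊔ qperp Q (F ∙ c)).finrank_le
    have h5 := finrank_qperp S.nondeg (F ∙ c)
    rw [finrank_span_singleton hc0] at h5
    rw [S.dec.dim i] at h3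
    change _ + finrank F W = _ at h3
    omega

/-- An affine line of a plane block. -/
theorem Setup.plane_line (hk : k = 2) {i : Fin t} {c : V} (hc : c ∈ D i) (hc0 : Q c ≠ 0) :
    ∃ u₀ ∈ D i, ∃ z ∈ D i, Q z ≠ 0 ∧ polar Q u₀ c = 1 ∧ polar Q z c = 0 ∧
      ((2 : F) ≠ 0 → u₀ = (2 * Q c)⁻¹ • c ∧ polar Q u₀ z = 0 ∧ z ∉ F ∙ c) ∧
      ((2 : F) = 0 → z = c ∧ ((∃ v ∈ D i, v ≠ 0 ∧ Q v = 0) → Q u₀ = 0)) := by
  have hc' : c ≠ 0 := fun h => hc0 (by rw [h, QuadraticMap.map_zero])
  by_cases h2 : (2 : F) = 0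
  · by_cases hiso : ∃ v ∈ D i, v ≠ 0 ∧ Q v = 0
    · obtain ⟨v, hv, hv0, hQv⟩ := hiso
      obtain ⟨s, hs, hsQ, hsc⟩ := exists_singular_polar S.nondeg (S.dec.nd i) hv hQv hv0 hc hc'
      refine ⟨(polar Q s c)⁻¹ • s, (D i).smul_mem _ hs, c, hc, hc0, by rw [polar_smul_l', inv_mul_cancel₀ hsc],
        by rw [polar_self', h2, zero_mul], fun h => absurd h2 h, fun _ => ⟨rfl, fun _ => ?_⟩⟩
      rw [quad_smul', hsQ, mul_zero]
    · obtain ⟨u, hu, huc⟩ := S.ne_zero_of_comp hc hc'
      exact ⟨u, hu, c, hc, hc0, huc, by rw [polar_self', h2, zero_mul], fun h => absurd h2 h,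
        fun _ => ⟨rfl, fun h => absurd h hiso⟩⟩
  · have h2c : polar Q c c ≠ 0 := by rw [polar_self']; exact mul_ne_zero h2 hc0
    obtain ⟨x, hx, hxc⟩ : ∃ x ∈ D i, x ∉ F ∙ c := by
      by_contra! hh
      have := Submodule.finrank_mono (show D i ≤ F ∙ c from hh)
      rw [finrank_span_singleton hc', S.dec.dim] at this
      omega
    set z := x - (polar Q x c / polar Q c c) • c with hz
    have hzD : z ∈ D i := (D i).sub_mem hx ((D i).smul_mem _ hc)
    have hzc : polar Q z c = 0 := by rw [hz, polar_sub_left, polar_smul_l', div_mul_cancel₀ _ h2c, sub_self]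
    have hzn : z ∉ F ∙ c := fun h => hxc (by
      have := Submodule.add_mem _ h (Submodule.smul_mem (F ∙ c) (polar Q x c / polar Q c c)
        (Submodule.mem_span_singleton_self c))
      rwa [hz, sub_add_cancel] at this)
    refine ⟨(2 * Q c)⁻¹ • c, (D i).smul_mem _ hc, z, hzD, fun hQz => ?_,
      by rw [polar_smul_l', polar_self', inv_mul_cancel₀ (mul_ne_zero h2 hc0)], hzc,
      fun _ => ⟨rfl, by rw [polar_smul_l', polar_comm, hzc, mul_zero], hzn⟩, fun h => absurd h h2⟩
    have hsp : D i ≤ Submodule.span F {c, z} := by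
      refine le_of_eq (Submodule.eq_of_le_of_finrank_eq ?_ ?_).symm
      · exact Submodule.span_le.2 (by simp [Set.insert_subset_iff, hc, hzD])
      · have hli : LinearIndependent F ![c, z] := (LinearIndependent.pair_iff' hc').2 fun a ha =>
          hzn (Submodule.mem_span_singleton.2 ⟨a, ha⟩)
        rw [S.dec.dim, hk, show ({c, z} : Set V) = Set.range ![c, z] by simp [Matrix.range_cons, Set.pair_comm], finrank_span_eq_card hli]
        simp
    refine hzn ((ndSub_eq_zero (S.dec.nd i) hzD fun y hy => ?_) ▸ Submodule.zero_mem _)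
    show polar Q y z = 0
    obtain ⟨a, b, rfl⟩ := Submodule.mem_span_pair.1 (hsp hy)
    rw [polar_add_left, polar_smul_l', polar_smul_l', polar_comm _ c z, hzc, polar_self', hQz]
    ring

omit S in
theorem quad_line (u₀ z : V) (x : F) : Q (u₀ + x • z) = Q u₀ + polar Q u₀ z * x + Q z * (x * x) := by
  rw [quad_add', quad_smul', polar_smul_r']; ring

theorem Setup.odd_three (hk : k = 2) (h2 : (2 : F) ≠ 0) : 5 ≤ Fintype.card F := by
  have h1 : Fintype.card F % 2 = 1 := FiniteField.odd_card_of_char_ne_two fun h' => h2 (by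
    have := ringChar.Nat.cast_ringChar (R := F)
    rw [h'] at this
    exact_mod_cast this)
  have := (S.small_two hk).1
  have := Fintype.one_lt_card (α := F)
  omega

/-- Among three blocks two carry vectors of opposite norms in the given affine lines. -/
theorem Setup.pair_two (hk : k = 2) {f : Fin 3 → Fin t} (hf : Function.Injective f) {c : Fin 3 → V}
    (hc : ∀ r, c r ∈ D (f r)) (hc0 : ∀ r, c r ≠ 0) : ∃ r s, r ≠ s ∧ ∃ u ∈ D (f r), ∃ v ∈ D (f s),
      polar Q u (c r) = 1 ∧ polar Q v (c s) = 1 ∧ Q u ≠ 0 ∧ Q u + Q v = 0 := by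
  classical
  by_cases hsing : ∃ r, Q (c r) = 0
  · obtain ⟨r, hr⟩ := hsing
    obtain ⟨s, hs⟩ : ∃ s, s ≠ r := exists_ne r
    obtain ⟨v, hv, hvc, hQv⟩ := S.exists_ns_nonperp (hc s) (hc0 s)
    obtain ⟨u, hu, huc, hQu⟩ := S.free_singular (hc r) (hc0 r) hr (-Q v)
    exact ⟨r, s, Ne.symm hs, u, hu, v, hv, huc, hvc, by rwa [hQu, neg_ne_zero], by rw [hQu, neg_add_cancel]⟩
  push Not at hsing
  choose u₀ hu₀ z hz hQz h1 h0 hodd hev using fun r => S.plane_line hk (hc r) (hsing r)
  have hmem : ∀ r (x : F), u₀ r + x • z r ∈ D (f r) ∧ polar Q (u₀ r + x • z r) (c r) = 1 := fun r x =>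
    ⟨(D (f r)).add_mem (hu₀ r) ((D (f r)).smul_mem _ (hz r)),
      by rw [polar_add_left, polar_smul_l', h1, h0, mul_zero, add_zero]⟩
  have fin : ∀ r s, r ≠ s → (∃ x y : F, Q (u₀ r + x • z r) + Q (u₀ s + y • z s) = 0 ∧ Q (u₀ r + x • z r) ≠ 0) →
      ∃ r s, r ≠ s ∧ ∃ u ∈ D (f r), ∃ v ∈ D (f s),
        polar Q u (c r) = 1 ∧ polar Q v (c s) = 1 ∧ Q u ≠ 0 ∧ Q u + Q v = 0 := by
    rintro r s hrs ⟨x, y, e, hne⟩
    exact ⟨r, s, hrs, _, (hmem r x).1, _, (hmem s y).1, (hmem r x).2, (hmem s y).2, hne, e⟩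
  by_cases hiso : ∃ i, ∃ v ∈ D i, v ≠ 0 ∧ Q v = 0
  · have hq : 7 ≤ Fintype.card F := (S.small_two hk).2 hiso
    obtain ⟨i, hi⟩ := hiso
    by_cases h2 : (2 : F) = 0
    · have e : ∀ r (x : F), Q (u₀ r + x • z r) = x + Q (c r) * (x * x) := fun r x => by
        obtain ⟨ez, eu⟩ := hev r h2
        rw [quad_line, ez, eu (S.iso_transfer hi), h1, zero_add, one_mul]
      obtain ⟨x, y, exy, hne⟩ := exists_common_two h2 (by omega) (hsing 0) (hsing 1)
      refine fin 0 1 (by decide) ⟨x, y, ?_, by rwa [e]⟩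
      rw [e, e]
      linear_combination exy + (y + Q (c 1) * (y * y)) * h2
    · have e : ∀ r (x : F), Q (u₀ r + x • z r) = (4 * Q (c r))⁻¹ + Q (z r) * (x * x) := fun r x => by
        obtain ⟨eu, eo, -⟩ := hodd r h2
        have h4 : (4 : F) ≠ 0 := by rw [show (4 : F) = 2 * 2 by ring]; exact mul_ne_zero h2 h2
        rw [quad_line, eo, eu, quad_smul']
        field_simp [hsing r]
        ring
      have hpair : ∀ r s, (4 * Q (c r))⁻¹ * (4 * Q (c r))⁻¹ + (4 * Q (c s))⁻¹ * (4 * Q (c s))⁻¹ ≠ 0 →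
          ∃ x y : F, Q (u₀ r + x • z r) + Q (u₀ s + y • z s) = 0 ∧ Q (u₀ r + x • z r) ≠ 0 := fun r s h => by
        obtain ⟨x, y, exy, hne⟩ := exists_common_odd h2 hq (hQz r) (hQz s) h
        exact ⟨x, y, by rw [e, e]; exact exy, by rwa [e]⟩
      by_cases hA : (4 * Q (c 0))⁻¹ * (4 * Q (c 0))⁻¹ + (4 * Q (c 1))⁻¹ * (4 * Q (c 1))⁻¹ ≠ 0
      · exact fin 0 1 (by decide) (hpair 0 1 hA)
      by_cases hB : (4 * Q (c 0))⁻¹ * (4 * Q (c 0))⁻¹ + (4 * Q (c 2))⁻¹ * (4 * Q (c 2))⁻¹ ≠ 0
      · exact fin 0 2 (by decide) (hpair 0 2 hB)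
      push Not at hA hB
      refine fin 1 2 (by decide) (hpair 1 2 fun hC => ?_)
      have h4 : (4 : F) ≠ 0 := by rw [show (4 : F) = 2 * 2 by ring]; exact mul_ne_zero h2 h2
      have h3 : (2 : F) * ((4 * Q (c 0))⁻¹ * (4 * Q (c 0))⁻¹) = 0 := by linear_combination hA + hB - hC
      exact mul_ne_zero h2 (mul_ne_zero (inv_ne_zero (mul_ne_zero h4 (hsing 0)))
        (inv_ne_zero (mul_ne_zero h4 (hsing 0)))) h3
  · push Not at hiso
    let A : Fin 3 → Finset F := fun r =>
      Finset.univ.image fun x : F => Q (u₀ r) + polar Q (u₀ r) (z r) * x + Q (z r) * (x * x)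
    have hA0 : ∀ r, (0 : F) ∉ A r := fun r h => by
      obtain ⟨x, -, hx⟩ := Finset.mem_image.1 h
      rw [← quad_line] at hx
      have hne : u₀ r + x • z r ≠ 0 := fun h' => by
        have := (hmem r x).2
        rw [h', polar_zero_left] at this
        exact zero_ne_one this
      exact hne (by_contra fun h' => hiso _ _ (hmem r x).1 h' hx)
    have hcard : ∀ r, Fintype.card F ≤ 2 * (A r).card := fun r => card_image_quad (hQz r)
    obtain ⟨a, ha, hb⟩ := exists_common_neg (hA0 0) (hA0 1) (by have := hcard 0; have := hcard 1; omega)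
    obtain ⟨x, -, rfl⟩ := Finset.mem_image.1 ha
    obtain ⟨y, -, hy⟩ := Finset.mem_image.1 hb
    rw [← quad_line, ← quad_line] at hy
    refine fin 0 1 (by decide) ⟨x, y, by rw [hy]; ring, fun h' => hA0 0 (Finset.mem_image.2 ⟨x, Finset.mem_univ _, ?_⟩)⟩
    rw [← quad_line, h']

/-- A norm avoiding the two forbidden values, in a plane. -/
theorem Setup.exists_u_two (hk : k = 2) {i : Fin t} {c : V} (hc : c ∈ D i) (hc0 : Q c ≠ 0) :
    ∃ u ∈ D i, polar Q u c = 1 ∧ Q u ≠ 0 ∧ 2 * Q c * Q u ≠ 1 ∧ u ∉ F ∙ c := by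
  classical
  by_cases h2 : (2 : F) = 0
  · obtain ⟨u, hu, huc, hQu⟩ := S.exists_ns_nonperp hc (fun h => hc0 (by rw [h, QuadraticMap.map_zero]))
    refine ⟨u, hu, huc, hQu, by rw [h2, zero_mul, zero_mul]; exact zero_ne_one, fun h => ?_⟩
    obtain ⟨a, rfl⟩ := Submodule.mem_span_singleton.1 h
    rw [polar_smul_l', polar_self', h2, zero_mul, mul_zero] at huc
    exact zero_ne_one huc
  obtain ⟨u₀, hu₀, z, hz, hQz, h1, h0, hodd, -⟩ := S.plane_line hk hc hc0
  obtain ⟨eu, eo, ezn⟩ := hodd h2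
  have h5 := S.odd_three hk h2
  set α := Q u₀
  let bad1 : Finset F := Finset.univ.filter fun x : F => α + Q z * (x * x) = 0
  let bad2 : Finset F := Finset.univ.filter fun x : F => 2 * Q c * (α + Q z * (x * x)) = 1
  have hb : ∀ T : Finset F, (∀ x ∈ T, ∀ y ∈ T, x * x = y * y) → T.card ≤ 2 := fun T hT => by
    by_cases h : T.Nonempty
    · obtain ⟨x, hx⟩ := h
      refine (Finset.card_le_card fun y hy => ?_).trans (Finset.card_le_two (a := x) (b := -x))
      rcases mul_self_eq_mul_self_iff.1 (hT y hy x hx) with h | h <;> simp [h]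
    · simp [Finset.not_nonempty_iff_eq_empty.1 h]
  have hb1 : bad1.card ≤ 2 := hb _ fun x hx y hy => by
    simp only [bad1, Finset.mem_filter] at hx hy
    exact mul_left_cancel₀ hQz (by linear_combination hx.2 - hy.2)
  have hb2 : bad2.card ≤ 2 := hb _ fun x hx y hy => by
    simp only [bad2, Finset.mem_filter] at hx hy
    exact mul_left_cancel₀ (mul_ne_zero (mul_ne_zero h2 hc0) hQz) (by linear_combination hx.2 - hy.2)
  have hb1' : Fintype.card F < 7 → bad1 = ∅ := fun hq => Finset.eq_empty_of_forall_notMem fun x hx => by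
    simp only [bad1, Finset.mem_filter] at hx
    have := (S.small_two hk).2 ⟨i, u₀ + x • z, (D i).add_mem hu₀ ((D i).smul_mem _ hz), fun h' => by
      have := congrArg (fun v => polar Q v c) h'
      simp only [polar_add_left, polar_smul_l', h1, h0, mul_zero, add_zero, polar_zero_left] at this
      exact one_ne_zero this, by rw [quad_line, eo, zero_mul, add_zero]; exact hx.2⟩
    omega
  obtain ⟨x, hx⟩ : ∃ x, x ∉ insert 0 (bad1 ∪ bad2) := by
    by_contra! hh
    have h6 := Finset.card_le_card (show Finset.univ ⊆ insert 0 (bad1 ∪ bad2) from fun x _ => hh x)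
    have h7 := Finset.card_insert_le 0 (bad1 ∪ bad2)
    have h8 := Finset.card_union_le bad1 bad2
    rw [Finset.card_univ] at h6
    rcases Nat.lt_or_ge (Fintype.card F) 7 with hq | hq
    · rw [hb1' hq, Finset.card_empty] at h8
      rw [hb1' hq] at h7 h6
      omega
    · omega
  simp only [bad1, bad2, Finset.mem_insert, Finset.mem_union, Finset.mem_filter, Finset.mem_univ, true_and,
    not_or] at hx
  refine ⟨u₀ + x • z, (D i).add_mem hu₀ ((D i).smul_mem _ hz), by rw [polar_add_left, polar_smul_l', h1, h0]; ring,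
    by rw [quad_line, eo, zero_mul, add_zero]; exact hx.2.1, by rw [quad_line, eo, zero_mul, add_zero]; exact hx.2.2,
    fun h => ezn ?_⟩
  rw [eu] at h
  exact (Submodule.smul_mem_iff _ hx.1).1 ((Submodule.add_mem_iff_right _ (Submodule.smul_mem _ _
    (Submodule.mem_span_singleton_self c))).1 h)

/-- Every norm occurs on the affine hyperplane of a non-zero vector in a block of dimension three. -/
theorem Setup.free_three (hk : k = 3) {i : Fin t} {c : V} (hc : c ∈ D i) (hc0 : c ≠ 0) (τ : F) :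
    ∃ u ∈ D i, polar Q u c = 1 ∧ Q u = τ := by
  by_cases hQc : Q c = 0
  · exact S.free_singular hc hc0 hQc τ
  have h2 := (S.small_three hk).1
  obtain ⟨w, hw, hQw⟩ := S.values_perp hc (Or.inr ⟨by omega, hQc, h2⟩) (τ - (4 * Q c)⁻¹)
  have hcw : polar Q c w = 0 := hw.2 c (Submodule.mem_span_singleton_self c)
  refine ⟨(2 * Q c)⁻¹ • c + w, (D i).add_mem ((D i).smul_mem _ hc) hw.1, ?_, ?_⟩
  · rw [polar_add_left, polar_smul_l', polar_self', inv_mul_cancel₀ (mul_ne_zero h2 hQc), polar_comm, hcw, add_zero]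
  · have h4 : (4 : F) ≠ 0 := by rw [show (4 : F) = 2 * 2 by ring]; exact mul_ne_zero h2 h2
    rw [quad_add', quad_smul', polar_smul_l', hcw, hQw]
    field_simp
    ring

/-- A norm avoiding the two forbidden values, outside a proper subspace, in dimension three. -/
theorem Setup.exists_u_three (hk : k = 3) {i : Fin t} {c : V} (hc : c ∈ D i) (hc0 : Q c ≠ 0) {K : Submodule F V}
    (hcK : c ∈ K) (hK : ¬ D i ≤ K) :
    ∃ u ∈ D i, polar Q u c = 1 ∧ Q u ≠ 0 ∧ 2 * Q c * Q u ≠ 1 ∧ u ∉ K := by
  classical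
  obtain ⟨h2, h5⟩ := S.small_three hk
  have hcc : polar Q c c ≠ 0 := by rw [polar_self']; exact mul_ne_zero h2 hc0
  set α := (4 * Q c)⁻¹ with hα
  obtain ⟨ν, hν⟩ : ∃ ν : F, ν ∉ ({0, -α, α} : Finset F) := by
    by_contra! hh
    have h6 := Finset.card_le_card (show Finset.univ ⊆ ({0, -α, α} : Finset F) from fun x _ => hh x)
    have h7 := Finset.card_le_three (a := (0 : F)) (b := -α) (c := α)
    rw [Finset.card_univ] at h6
    omega
  simp only [Finset.mem_insert, Finset.mem_singleton, not_or] at hν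
  obtain ⟨hν0, hν1, hν2⟩ := hν
  set W := D i ⊓ qperp Q (F ∙ c)
  have hWc : ∀ w ∈ W, polar Q w c = 0 := fun w hw => by
    rw [polar_comm]; exact hw.2 c (Submodule.mem_span_singleton_self c)
  obtain ⟨w, hw, hwK, hQw⟩ : ∃ w ∈ W, w ∉ K ∧ Q w = ν := by
    obtain ⟨w, hw, hQw⟩ := S.values_perp hc (Or.inr ⟨by omega, hc0, h2⟩) ν
    by_cases hwK : w ∈ K
    swap
    · exact ⟨w, hw, hwK, hQw⟩
    obtain ⟨v₀, hv₀, hv₀K⟩ : ∃ v ∈ W, v ∉ K := by
      by_contra! hh
      refine hK fun x hx => ?_
      have hx' : x - (polar Q c x / polar Q c c) • c ∈ W := ⟨(D i).sub_mem hx ((D i).smul_mem _ hc), fun z hz => by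
        obtain ⟨s, rfl⟩ := Submodule.mem_span_singleton.1 hz
        show polar Q (s • c) _ = 0
        rw [polar_smul_l', polar_sub_right, polar_smul_r', div_mul_cancel₀ _ hcc, sub_self, mul_zero]⟩
      simpa using K.add_mem (hh _ hx') (K.smul_mem (polar Q c x / polar Q c c) hcK)
    let P1 : Finset F := Finset.univ.filter fun x : F => Q v₀ + polar Q v₀ w * x + ν * (x * x) = 0
    have hP1 : P1.card ≤ 2 := by
      by_cases h : P1.Nonempty
      · obtain ⟨x₀, hx₀⟩ := h
        refine (Finset.card_le_card fun y hy => ?_).trans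
          (Finset.card_le_two (a := x₀) (b := -x₀ - polar Q v₀ w / ν))
        simp only [P1, Finset.mem_filter] at hx₀ hy
        have h : (y - x₀) * (polar Q v₀ w + ν * (y + x₀)) = 0 := by linear_combination hy.2 - hx₀.2
        simp only [Finset.mem_insert, Finset.mem_singleton]
        rcases mul_eq_zero.1 h with h | h
        · exact Or.inl (sub_eq_zero.1 h)
        · right; field_simp; linear_combination h
      · simp [Finset.not_nonempty_iff_eq_empty.1 h]
    obtain ⟨x, hx⟩ : ∃ x, x ∉ insert (-(polar Q v₀ w) / (2 * ν)) P1 := by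
      by_contra! hh
      have h6 := Finset.card_le_card (show Finset.univ ⊆ insert (-(polar Q v₀ w) / (2 * ν)) P1 from fun x _ => hh x)
      have h7 := Finset.card_insert_le (-(polar Q v₀ w) / (2 * ν)) P1
      rw [Finset.card_univ] at h6
      omega
    simp only [P1, Finset.mem_insert, Finset.mem_filter, Finset.mem_univ, true_and, not_or] at hx
    set v := v₀ + x • w
    have hvW : v ∈ W := W.add_mem hv₀ (W.smul_mem _ hw)
    have hQv : Q v ≠ 0 := by
      simp only [v, quad_line, hQw]; exact hx.2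
    have hvw : polar Q v w ≠ 0 := fun h => hx.1 (by
      simp only [v, polar_add_left, polar_smul_l', polar_self', hQw] at h
      field_simp
      linear_combination h)
    refine ⟨(refl Q v).1 w, ?_, fun h => hv₀K ?_, by rw [apply_quad, hQw]⟩
    · rw [refl_apply]; exact W.sub_mem hw (W.smul_mem _ hvW)
    · rw [refl_apply] at h
      have h' := K.sub_mem hwK h
      rw [sub_sub_cancel] at h'
      have hvK : v ∈ K := (K.smul_mem_iff (mul_ne_zero (inv_ne_zero hQv) hvw)).1 h'
      simpa [v] using K.sub_mem hvK (K.smul_mem x hwK)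
  have hcw : polar Q c w = 0 := by rw [polar_comm]; exact hWc w hw
  have hQu : Q ((2 * Q c)⁻¹ • c + w) = α + ν := by
    have h4 : (4 : F) ≠ 0 := by rw [show (4 : F) = 2 * 2 by ring]; exact mul_ne_zero h2 h2
    rw [quad_add', quad_smul', polar_smul_l', hcw, hQw, hα]
    field_simp
    ring
  refine ⟨(2 * Q c)⁻¹ • c + w, (D i).add_mem ((D i).smul_mem _ hc) hw.1, ?_, ?_, ?_, fun h => hwK ?_⟩
  · rw [polar_add_left, polar_smul_l', polar_self', inv_mul_cancel₀ (mul_ne_zero h2 hc0), hWc w hw, add_zero]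
  · rw [hQu]; exact fun h => hν1 (by linear_combination h)
  · rw [hQu]
    intro h
    refine hν2 (mul_left_cancel₀ (mul_ne_zero h2 hc0) ?_)
    have h' : 4 * Q c * α = 1 := by
      rw [hα]; exact mul_inv_cancel₀ (by rw [show (4 : F) = 2 * 2 by ring]; exact mul_ne_zero (mul_ne_zero h2 h2) hc0)
    linear_combination h - h'
  · simpa using K.sub_mem h (K.smul_mem (2 * Q c)⁻¹ hcK)

end CfsgLib.Classical.DecompOrth
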